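import Cfsg.Agent.Lib.Coprime.Solvable
import Cfsg.Agent.Lib.Coprime.Action
import Cfsg.Agent.Lib.Qd.QdGroup
import Cfsg.Agent.Lib.Qd.SLTwo
import Cfsg.Agent.Lib.Fusion.Transfer
import Cfsg.Agent.Lib.Char.Burnside
import Cfsg.Agent.Lib.CFun.LocalGlobal
import Mathlib.GroupTheory.SchurZassenhaus

/-!
# Groups whose `p'`-subgroups are abelian of exponent dividing `p - 1`: general facts
-/

set_option autoImplicit false
set_option linter.unusedSectionVars false
set_option linter.style.haveILetI false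
set_option maxHeartbeats 800000

open Subgroup
open scoped commutatorElement

namespace CfsgLib.Solv.AbHall

universe u v

variable {G : Type u} [Group G]

/-- Every subgroup of order prime to `p` is abelian, of exponent dividing `p - 1`. -/
def Hyp (p : ℕ) (G : Type u) [Group G] : Prop :=
  ∀ H : Subgroup G, (Nat.card H).Coprime p → IsMulCommutative H ∧ ∀ x ∈ H, x ^ (p - 1) = 1

/-- An element of order prime to `p`. -/
def Reg (p : ℕ) (g : G) : Prop := ¬ p ∣ orderOf g

/-- An element of `p`-power order. -/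
def PElt (p : ℕ) (g : G) : Prop := ∃ k : ℕ, g ^ p ^ k = 1

variable {p : ℕ} [hp : Fact p.Prime]

theorem Reg.one : Reg p (1 : G) := by
  simp only [Reg, orderOf_one]
  exact hp.out.not_dvd_one

theorem Reg.of_dvd {H : Type v} [Group H] {g : G} {k : H} (hg : Reg p g)
    (h : orderOf k ∣ orderOf g) : Reg p k := fun hd => hg (hd.trans h)

theorem Reg.map {H : Type v} [Group H] (f : G →* H) {g : G} (hg : Reg p g) : Reg p (f g) :=
  hg.of_dvd (orderOf_map_dvd f g)

theorem Reg.of_mem_zpowers {g y : G} (hg : Reg p g) (hy : y ∈ zpowers g) : Reg p y := by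
  obtain ⟨i, rfl⟩ := mem_zpowers_iff.1 hy
  exact hg.of_dvd (orderOf_dvd_of_pow_eq_one (by rw [← zpow_natCast, ← zpow_mul, mul_comm, zpow_mul, zpow_natCast, pow_orderOf_eq_one, one_zpow]))

theorem Reg.conj {g : G} (hg : Reg p g) (t : G) : Reg p (t * g * t⁻¹) :=
  hg.map (MulAut.conj t).toMonoidHom

theorem reg_of_mem [Finite G] {H : Subgroup G} (hH : ¬ p ∣ Nat.card H) {g : G} (hg : g ∈ H) :
    Reg p g := fun hd => hH (hd.trans (Subgroup.orderOf_dvd_natCard H hg))

theorem reg_subtype {H : Subgroup G} {h : H} : Reg p h ↔ Reg p (h : G) := by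
  simp only [Reg, Subgroup.orderOf_coe]

theorem not_dvd_zpowers [Finite G] {g : G} (hg : Reg p g) : ¬ p ∣ Nat.card (zpowers g) := by
  rwa [Nat.card_zpowers]

theorem PElt.one : PElt p (1 : G) := ⟨0, one_pow _⟩

theorem PElt.map {H : Type v} [Group H] (f : G →* H) {g : G} (hg : PElt p g) : PElt p (f g) := by
  obtain ⟨k, hk⟩ := hg
  exact ⟨k, by rw [← map_pow, hk, map_one]⟩

theorem PElt.conj {g : G} (hg : PElt p g) (t : G) : PElt p (t * g * t⁻¹) :=
  hg.map (MulAut.conj t).toMonoidHom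

theorem PElt.eq_one {g : G} (hg : PElt p g) (hr : Reg p g) : g = 1 := by
  obtain ⟨k, hk⟩ := hg
  obtain ⟨j, -, hj⟩ := (Nat.dvd_prime_pow hp.out).1 (orderOf_dvd_of_pow_eq_one hk)
  rcases Nat.eq_zero_or_pos j with rfl | hpos
  · rw [pow_zero, orderOf_eq_one_iff] at hj; exact hj
  · exact absurd (hj ▸ dvd_pow_self p hpos.ne') hr

theorem pelt_of_mem {P : Subgroup G} (hP : IsPGroup p P) {g : G} (hg : g ∈ P) : PElt p g := by
  obtain ⟨k, hk⟩ := hP ⟨g, hg⟩
  exact ⟨k, by simpa using congrArg (Subgroup.subtype P) hk⟩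

theorem isPGroup_zpowers {g : G} (hg : PElt p g) : IsPGroup p (zpowers g) := by
  obtain ⟨k, hk⟩ := hg
  rintro ⟨y, hy⟩
  obtain ⟨i, rfl⟩ := mem_zpowers_iff.1 hy
  refine ⟨k, Subtype.ext ?_⟩
  push_cast
  rw [← zpow_natCast (g ^ i), ← zpow_mul, mul_comm, zpow_mul, zpow_natCast, hk, one_zpow]

variable [Finite G]

/-- The `p`-part and the `p'`-part of an element. -/
theorem exists_split (p : ℕ) [hp : Fact p.Prime] (g : G) :
    ∃ v k : G, v ∈ zpowers g ∧ k ∈ zpowers g ∧ v * k = g ∧ PElt p v ∧ Reg p k := by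
  obtain ⟨e, m, hm, he⟩ :=
    Nat.exists_eq_pow_mul_and_not_dvd (orderOf_pos g).ne' p hp.out.ne_one
  have hco : (p ^ e).Coprime m := ((hp.out.coprime_iff_not_dvd).2 hm).pow_left e
  obtain ⟨a, b, hab⟩ := Nat.isCoprime_iff_coprime.2 hco
  have hz : g ^ ((p ^ e * m : ℕ) : ℤ) = 1 := by rw [zpow_natCast, ← he, pow_orderOf_eq_one]
  refine ⟨g ^ (b * (m : ℤ)), g ^ (a * ((p ^ e : ℕ) : ℤ)), zpow_mem (mem_zpowers g) _,
    zpow_mem (mem_zpowers g) _, ?_, ⟨e, ?_⟩, fun hd => ?_⟩
  · rw [← zpow_add, add_comm, hab, zpow_one]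
  · rw [← zpow_natCast _ (p ^ e), ← zpow_mul,
      show b * (m : ℤ) * ((p ^ e : ℕ) : ℤ) = ((p ^ e * m : ℕ) : ℤ) * b by push_cast; ring,
      zpow_mul, hz, one_zpow]
  · refine hm (hd.trans (orderOf_dvd_of_pow_eq_one ?_))
    rw [← zpow_natCast _ m, ← zpow_mul,
      show a * ((p ^ e : ℕ) : ℤ) * (m : ℤ) = ((p ^ e * m : ℕ) : ℤ) * a by push_cast; ring,
      zpow_mul, hz, one_zpow]

theorem Hyp.subgroup (h : Hyp p G) (X : Subgroup G) : Hyp p X := by
  intro H hH
  obtain ⟨h1, h2⟩ := h (H.map X.subtype)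
    (by rwa [Subgroup.card_map_of_injective X.subtype_injective])
  refine ⟨⟨⟨fun a b => ?_⟩⟩, fun x hx => ?_⟩
  · have := congrArg Subtype.val
      (h1.is_comm.comm ⟨_, mem_map_of_mem X.subtype a.2⟩ ⟨_, mem_map_of_mem X.subtype b.2⟩)
    exact Subtype.ext (X.subtype_injective (by simpa using this))
  · refine X.subtype_injective ?_
    rw [map_pow, map_one]
    exact h2 _ (mem_map_of_mem X.subtype hx)

/-- Elements of a `p'`-subgroup commute. -/
theorem Hyp.comm_mem (h : Hyp p G) {H : Subgroup G} (hH : ¬ p ∣ Nat.card H) {x y : G}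
    (hx : x ∈ H) (hy : y ∈ H) : x * y = y * x :=
  congrArg Subtype.val
    ((h H ((hp.out.coprime_iff_not_dvd.2 hH).symm)).1.is_comm.comm ⟨x, hx⟩ ⟨y, hy⟩)

theorem Hyp.pow_eq_one (h : Hyp p G) {x : G} (hx : Reg p x) : x ^ (p - 1) = 1 :=
  (h (zpowers x) ((hp.out.coprime_iff_not_dvd.2 (not_dvd_zpowers hx)).symm)).2 x (mem_zpowers x)

/-- Every other prime divisor of the order divides `p - 1`. -/
theorem Hyp.prime_dvd (h : Hyp p G) {r : ℕ} (hr : r.Prime) (hrp : r ≠ p) (hd : r ∣ Nat.card G) :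
    r ∣ p - 1 := by
  haveI := Fact.mk hr
  obtain ⟨x, hx⟩ := exists_prime_orderOf_dvd_card' r hd
  rw [← hx]
  exact orderOf_dvd_of_pow_eq_one (h.pow_eq_one
    (fun hd => hrp ((Nat.prime_dvd_prime_iff_eq hp.out hr).1 (hx ▸ hd)).symm))

theorem Hyp.of_quotient_core (h : Hyp p G) (N : Subgroup G) [N.Normal]
    (hN : IsPGroup p N ∨ ¬ p ∣ Nat.card N) : Hyp p (G ⧸ N) := by
  intro H hH
  set π := QuotientGroup.mk' N with hπ
  have hsur : Function.Surjective π := QuotientGroup.mk'_surjective N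
  set X := H.comap π with hX
  have hNX : N ≤ X := fun n hn => by
    show π n ∈ H
    rw [show π n = 1 from (QuotientGroup.eq_one_iff n).2 hn]
    exact one_mem _
  obtain ⟨K, hKX, hKp, hKH⟩ : ∃ K : Subgroup G, K ≤ X ∧ (Nat.card K).Coprime p ∧ K.map π = H := by
    rcases hN with hNp | hNp'
    · haveI : (N.subgroupOf X).Normal := normal_subgroupOf
      have hidx : (N.subgroupOf X).index = Nat.card H := by
        have h1 := Coprime.card_eq_card_mul_card_map_mk' N hNX
        rw [Subgroup.map_comap_eq_self_of_surjective hsur] at h1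
        have h2 := (N.subgroupOf X).card_mul_index
        rw [Nat.card_congr (Subgroup.subgroupOfEquivOfLe hNX).toEquiv, h1] at h2
        exact Nat.eq_of_mul_eq_mul_left Nat.card_pos h2
      obtain ⟨j, hj⟩ := IsPGroup.iff_card.1 hNp
      have hcard : Nat.card (N.subgroupOf X) = p ^ j :=
        (Nat.card_congr (Subgroup.subgroupOfEquivOfLe hNX).toEquiv).trans hj
      obtain ⟨L, hL⟩ := Subgroup.exists_right_complement'_of_coprime (N := N.subgroupOf X)
        (by rw [hidx, hcard]; exact (Nat.Coprime.pow_right j hH).symm)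
      refine ⟨L.map X.subtype, map_subtype_le L, ?_, le_antisymm ?_ fun y hy => ?_⟩
      · rw [Subgroup.card_map_of_injective X.subtype_injective, ← hL.symm.index_eq_card, hidx]
        exact hH
      · exact map_le_iff_le_comap.2 (map_subtype_le L)
      · obtain ⟨x, rfl⟩ := hsur y
        obtain ⟨⟨⟨n, hn⟩, ⟨l, hl⟩⟩, hnl⟩ := hL.2 (⟨x, hy⟩ : X)
        refine ⟨(l : G), mem_map_of_mem _ hl, ?_⟩
        have hx : (n : G) * (l : G) = x := congrArg Subtype.val hnl
        rw [← hx, map_mul, show π (n : G) = 1 from (QuotientGroup.eq_one_iff _).2 hn, one_mul]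
    · refine ⟨X, le_rfl, ?_, Subgroup.map_comap_eq_self_of_surjective hsur H⟩
      rw [Coprime.card_eq_card_mul_card_map_mk' N hNX,
        Subgroup.map_comap_eq_self_of_surjective hsur]
      exact Nat.Coprime.mul_left ((hp.out.coprime_iff_not_dvd.2 hNp').symm) hH
  obtain ⟨h1, h2⟩ := h K hKp
  subst hKH
  refine ⟨⟨⟨fun a b => ?_⟩⟩, ?_⟩
  · obtain ⟨_, a, ha, rfl⟩ := a
    obtain ⟨_, b, hb, rfl⟩ := b
    refine Subtype.ext ?_
    show π a * π b = π b * π a
    rw [← map_mul, ← map_mul]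
    exact congrArg π (congrArg Subtype.val (h1.is_comm.comm ⟨a, ha⟩ ⟨b, hb⟩))
  · rintro _ ⟨a, ha, rfl⟩
    rw [← map_pow, h2 a ha, map_one]

/-- `2`-subgroups are abelian, so `Qd(p)` is not involved. -/
theorem Hyp.qdFree (h : Hyp p G) (hp2 : p ≠ 2) : ¬ Cfsg.Involves ↥(Cfsg.qd p) G := by
  intro hq
  obtain ⟨K, R, hR, ⟨e⟩⟩ := Qd.involves_trans Qd.involves_slTwo_qd hq
  haveI := hR
  haveI := Fact.mk Nat.prime_two
  refine Qd.not_comm_of_surjective hp2
    (e.toMonoidHom.comp (QuotientGroup.mk' (R.subgroupOf K)))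
    (e.surjective.comp (QuotientGroup.mk'_surjective _)) fun T x hx y hy => ?_
  refine (h.subgroup K).comm_mem ?_ hx hy
  obtain ⟨j, hj⟩ := IsPGroup.iff_card.1 T.2
  rw [hj]
  exact fun hd => hp2 ((Nat.prime_dvd_prime_iff_eq hp.out Nat.prime_two).1
    (hp.out.dvd_of_dvd_pow hd))

/-- A regular element centralizes the `p'`-core. -/
theorem Hyp.comm_pPrimeCore (h : Hyp p G) {y f : G} (hy : Reg p y)
    (hf : f ∈ Cfsg.pPrimeCore p G) : y * f = f * y := by
  haveI : (Cfsg.pPrimeCore p G).Normal := Subgroup.sSup_normal _ (fun _ hN => hN.1)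
  refine h.comm_mem (H := zpowers y ⊔ Cfsg.pPrimeCore p G) (fun hd => ?_)
    (mem_sup_left (mem_zpowers y)) (mem_sup_right hf)
  rcases hp.out.dvd_mul.1 (hd.trans (Coprime.card_sup_dvd_of_normal _ _)) with hz | hz
  · exact not_dvd_zpowers hy hz
  · exact Coprime.pPrimeCore_not_dvd hp.out hz

/-- With trivial `p`-core the `p'`-core of a solvable group is self-centralizing. -/
theorem centralizer_pPrimeCore_le_self [Group.IsSolvable G] (h : Cfsg.pCore p G = ⊥) :
    centralizer (Cfsg.pPrimeCore p G : Set G) ≤ Cfsg.pPrimeCore p G := by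
  have hF : Cfsg.fittingSubgroup G ≤ Cfsg.pPrimeCore p G := by
    rw [Coprime.fitting_eq_iSup_pCore]
    refine iSup_le fun q => ?_
    by_cases hq : (q : ℕ) = p
    · rw [hq, h]; exact bot_le
    · haveI := Fact.mk q.2
      exact Coprime.pCore_le_pPrimeCore_of_ne hq
  exact (centralizer_le (SetLike.coe_subset_coe.2 hF)).trans
    (Coprime.centralizer_fitting_le.trans hF)

/-- With trivial `p`-core the `p'`-core consists of all regular elements. -/
theorem Hyp.reg_mem_pPrimeCore [Group.IsSolvable G] (h : Hyp p G) (hO : Cfsg.pCore p G = ⊥) {y : G}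
    (hy : Reg p y) : y ∈ Cfsg.pPrimeCore p G :=
  centralizer_pPrimeCore_le_self hO (mem_centralizer_iff.2 fun _ hf => (h.comm_pPrimeCore hy hf).symm)

theorem reg_of_mem_pPrimeCore {y : G} (hy : y ∈ Cfsg.pPrimeCore p G) : Reg p y :=
  reg_of_mem (Coprime.pPrimeCore_not_dvd hp.out) hy

theorem hyp_quotient_pCore (h : Hyp p G) [(Cfsg.pCore p G).Normal] :
    Hyp p (G ⧸ Cfsg.pCore p G) :=
  h.of_quotient_core _ (Or.inl (Coprime.pCore_isPGroup p))

/-- The preimage of the `p'`-core of `G / O_p(G)`. -/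
def regKer (p : ℕ) (G : Type u) [Group G] : Subgroup G :=
  haveI : (Cfsg.pCore p G).Normal := Coprime.pCore_normal' p
  (Cfsg.pPrimeCore p (G ⧸ Cfsg.pCore p G)).comap (QuotientGroup.mk' (Cfsg.pCore p G))

instance pCoreNormalInst (p : ℕ) : (Cfsg.pCore p G).Normal := Coprime.pCore_normal' p

instance regKer_normal (p : ℕ) : (regKer p G).Normal := by
  haveI : (Cfsg.pPrimeCore p (G ⧸ Cfsg.pCore p G)).Normal :=
    Subgroup.sSup_normal _ (fun _ hN => hN.1)
  exact Subgroup.Normal.comap this _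

theorem mem_regKer {g : G} :
    g ∈ regKer p G ↔ (g : G ⧸ Cfsg.pCore p G) ∈ Cfsg.pPrimeCore p (G ⧸ Cfsg.pCore p G) :=
  Iff.rfl

theorem pCore_le_regKer : Cfsg.pCore p G ≤ regKer p G := fun g hg => by
  rw [mem_regKer, (QuotientGroup.eq_one_iff g).2 hg]
  exact one_mem _

section Solvable

variable [Group.IsSolvable G] (h : Hyp p G)
include h

theorem reg_mem_regKer {g : G} (hg : Reg p g) : g ∈ regKer p G :=
  (hyp_quotient_pCore h).reg_mem_pPrimeCore (Coprime.pCore_quotient_eq_bot p)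
    (hg.map (QuotientGroup.mk' _))

theorem commutator_regKer {x y : G} (hx : x ∈ regKer p G) (hy : y ∈ regKer p G) :
    x * y * x⁻¹ * y⁻¹ ∈ Cfsg.pCore p G := by
  rw [← QuotientGroup.eq_one_iff]
  have hc := (hyp_quotient_pCore h).comm_mem (Coprime.pPrimeCore_not_dvd hp.out)
    (mem_regKer.1 hx) (mem_regKer.1 hy)
  simp only [QuotientGroup.mk_mul, QuotientGroup.mk_inv]
  rw [hc]
  group

theorem pelt_regKer {x : G} (hx : x ∈ regKer p G) (hxp : PElt p x) : x ∈ Cfsg.pCore p G :=
  (QuotientGroup.eq_one_iff x).1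
    ((hxp.map (QuotientGroup.mk' _)).eq_one (reg_of_mem_pPrimeCore (mem_regKer.1 hx)))

/-- The quotient by the kernel is a `p`-group. -/
theorem isPGroup_quotient_regKer : IsPGroup p (G ⧸ regKer p G) := by
  intro q
  obtain ⟨g, rfl⟩ := QuotientGroup.mk_surjective q
  obtain ⟨v, k, -, -, rfl, ⟨e, he⟩, hk⟩ := exists_split p g
  refine ⟨e, ?_⟩
  rw [QuotientGroup.mk_mul, (QuotientGroup.eq_one_iff k).2 (reg_mem_regKer h hk), mul_one,
    ← QuotientGroup.mk_pow, he, QuotientGroup.mk_one]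

/-- A Sylow `p`-subgroup covers the quotient by the kernel. -/
theorem exists_sylow_mul (P : Sylow p G) (g : G) :
    ∃ x ∈ (P : Subgroup G), x⁻¹ * g ∈ regKer p G := by
  have hs : Function.Surjective (QuotientGroup.mk' (regKer p G)) := QuotientGroup.mk'_surjective _
  have htop : (P.mapSurjective hs : Subgroup (G ⧸ regKer p G)) = ⊤ :=
    ((P.mapSurjective hs).3 ((isPGroup_quotient_regKer h).to_subgroup ⊤) le_top).symm
  have hm : (g : G ⧸ regKer p G) ∈ (P : Subgroup G).map (QuotientGroup.mk' (regKer p G)) := by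
    rw [← Sylow.coe_mapSurjective hs P, htop]
    exact mem_top _
  obtain ⟨x, hx, hxg⟩ := hm
  exact ⟨x, hx, QuotientGroup.eq.1 hxg⟩

/-- When the Sylow `p`-subgroup lies in the derived group there is no `p`-quotient. -/
theorem regKer_eq_top_of_sylow_le (P : Sylow p G) (hP : (P : Subgroup G) ≤ commutator G) :
    regKer p G = ⊤ := by
  by_contra hne
  haveI : Nontrivial (G ⧸ regKer p G) := QuotientGroup.nontrivial_iff.2 hne
  refine (Group.IsSolvable.commutator_lt_top_of_nontrivial (G := G ⧸ regKer p G)).ne ?_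
  refine eq_top_iff.2 fun q _ => ?_
  obtain ⟨g, rfl⟩ := QuotientGroup.mk_surjective q
  obtain ⟨x, hx, hxg⟩ := exists_sylow_mul h P g
  rw [← QuotientGroup.eq.2 hxg]
  have := mem_map_of_mem (QuotientGroup.mk' (regKer p G)) (hP hx)
  rw [_root_.commutator_def, map_commutator, Subgroup.map_top_of_surjective _
    (QuotientGroup.mk'_surjective _), ← _root_.commutator_def] at this
  exact this

theorem card_mul_pCore (P : Sylow p G) :
    Nat.card G * Nat.card (Cfsg.pCore p G) = Nat.card (P : Subgroup G) * Nat.card (regKer p G) := by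
  classical
  choose x hx hxg using fun g => exists_sylow_mul h P g
  rw [← Nat.card_prod, ← Nat.card_prod]
  refine le_antisymm
    (Nat.card_le_card_of_injective
      (fun a : G × Cfsg.pCore p G =>
        ((⟨x a.1 * a.2, mul_mem (hx a.1) (Coprime.pCore_le_sylow P a.2.2)⟩ : (P : Subgroup G)),
          (⟨(a.2 : G)⁻¹ * ((x a.1)⁻¹ * a.1),
            mul_mem (inv_mem (pCore_le_regKer a.2.2)) (hxg a.1)⟩ : regKer p G))) ?_)
    (Nat.card_le_card_of_injective
      (fun a : ↥(P : Subgroup G) × regKer p G =>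
        ((a.1 : G) * a.2,
          (⟨(x ((a.1 : G) * a.2))⁻¹ * a.1, pelt_regKer h ?_
            (pelt_of_mem P.2 (mul_mem (inv_mem (hx _)) a.1.2))⟩ : Cfsg.pCore p G))) ?_)
  · rintro ⟨g, q⟩ ⟨g', q'⟩ he
    simp only [Prod.mk.injEq, Subtype.mk.injEq] at he
    have hg : g = g' := by
      calc g = x g * q * ((q : G)⁻¹ * ((x g)⁻¹ * g)) := by group
        _ = x g' * q' * ((q' : G)⁻¹ * ((x g')⁻¹ * g')) := by rw [he.1, he.2]
        _ = g' := by group
    subst hg
    exact Prod.ext rfl (Subtype.ext (mul_left_cancel he.1))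
  · have h1 := mul_mem (hxg ((a.1 : G) * a.2)) (inv_mem a.2.2)
    simpa [mul_assoc] using h1
  · rintro ⟨a, k⟩ ⟨a', k'⟩ he
    simp only [Prod.mk.injEq, Subtype.mk.injEq] at he
    obtain ⟨h1, h2⟩ := he
    rw [h1] at h2
    have ha : (a : G) = a' := mul_left_cancel h2
    rw [ha] at h1
    exact Prod.ext (Subtype.ext ha) (Subtype.ext (mul_left_cancel h1))

end Solvable

/-- A `p`-element normalizing a cyclic group of order prime to `p` and to `p - 1` centralizes it:
here the order is a power of a prime `r < p`. -/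
theorem comm_of_cyclic {r : ℕ} (hr : r.Prime) (hrp : r < p) {C : Subgroup G} [IsCyclic C]
    (hC : IsPGroup r C) {y : G} (hy : PElt p y) (hn : y ∈ normalizer (C : Set G)) :
    y ∈ centralizer (C : Set G) := by
  haveI := Fact.mk hr
  set f := C.normalizerMonoidHom with hf
  have hone : f ⟨y, hn⟩ = 1 := by
    refine (PElt.map (p := p) f (g := (⟨y, hn⟩ : normalizer (C : Set G))) ?_).eq_one fun hd => ?_
    · obtain ⟨k, hk⟩ := hy
      exact ⟨k, Subtype.ext (by simpa using hk)⟩
    · have h1 := hd.trans (orderOf_dvd_natCard (f ⟨y, hn⟩))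
      obtain ⟨n, hcard⟩ := IsPGroup.iff_card.1 hC
      rw [IsCyclic.card_mulAut, hcard] at h1
      rcases Nat.eq_zero_or_pos n with rfl | hn0
      · simp at h1
        exact hp.out.ne_one h1
      · rw [Nat.totient_prime_pow hr hn0] at h1
        rcases hp.out.dvd_mul.1 h1 with h2 | h2
        · exact absurd ((Nat.prime_dvd_prime_iff_eq hp.out hr).1 (hp.out.dvd_of_dvd_pow h2)) hrp.ne'
        · have := Nat.le_of_dvd (by have := hr.two_le; omega) h2
          omega
  have hk := MonoidHom.mem_ker.2 hone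
  rw [Subgroup.normalizerMonoidHom_ker] at hk
  exact mem_subgroupOf.1 hk

/-- If the fixed points of a `p`-element on an abelian normal `r`-subgroup centralized by all regular
elements are cyclic, they are central. -/
theorem fixed_le_center {r : ℕ} (hr : r.Prime) (hrp : r < p) (V : Subgroup G) [V.Normal]
    (hV : IsPGroup r V) (hreg : ∀ y : G, Reg p y → y ∈ centralizer (V : Set G)) {x : G}
    (hx : PElt p x) [hcyc : IsCyclic ↥(V ⊓ centralizer ({x} : Set G))] :
    V ⊓ centralizer ({x} : Set G) ≤ center G := by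
  set C := V ⊓ centralizer ({x} : Set G) with hCdef
  obtain ⟨P, hP⟩ := (isPGroup_zpowers hx).exists_le_sylow
  set D := (P : Subgroup G) ⊓ centralizer (C : Set G) with hD
  have hxD : x ∈ D := mem_inf.2 ⟨hP (mem_zpowers x), mem_centralizer_iff.2 fun c hc =>
    mem_centralizer_singleton_iff.1 (mem_inf.1 hc).2⟩
  have hCD : C = V ⊓ centralizer (D : Set G) := le_antisymm
    (fun c hc => mem_inf.2 ⟨(mem_inf.1 hc).1, mem_centralizer_iff.2 fun d hd =>
      ((mem_centralizer_iff.1 (mem_inf.1 hd).2) c hc).symm⟩)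
    (inf_le_inf_left _ (centralizer_le (Set.singleton_subset_iff.2 hxD)))
  have hCr : IsPGroup r C := hV.to_le inf_le_left
  have hDP : D = (P : Subgroup G) := by
    by_contra hne
    have hlt := CFun.lt_inf_normalizer_sylow P inf_le_left hne
    refine hlt.ne (le_antisymm hlt.le fun y hy => mem_inf.2 ⟨(mem_inf.1 hy).1, ?_⟩)
    refine comm_of_cyclic hr hrp hCr (pelt_of_mem P.2 (mem_inf.1 hy).1) ?_
    have hyn : y ∈ normalizer ((V ⊓ centralizer (D : Set G) : Subgroup G) : Set G) :=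
      Coprime.inf_le_normalizer (A := normalizer (D : Set G))
        (by rw [Subgroup.normalizer_eq_top V]; exact le_top)
        (Coprime.normalizer_le_normalizer_centralizer D) (mem_inf.1 hy).2
    rwa [← hCD] at hyn
  intro c hc
  have hall : centralizer ({c} : Set G) = ⊤ := by
    refine Subgroup.eq_top_of_card_eq _ (Nat.dvd_antisymm (Subgroup.card_subgroup_dvd_card _) ?_)
    rw [Nat.dvd_iff_prime_pow_dvd_dvd]
    intro q k hq hd
    haveI := Fact.mk hq
    obtain ⟨H, hH⟩ := Sylow.exists_subgroup_card_pow_prime q hd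
    rw [← hH]
    rcases eq_or_ne q p with rfl | hqp
    · obtain ⟨t, ht⟩ := (IsPGroup.of_card hH).exists_le_sylow
      obtain ⟨g, hg⟩ := MulAction.exists_smul_eq G t P
      have hPc : (P : Subgroup G) ≤ centralizer ({c} : Set G) := fun a ha =>
        mem_centralizer_singleton_iff.2
          ((mem_centralizer_iff.1 (mem_inf.1 (hDP.ge ha)).2 c hc).symm)
      calc Nat.card H ∣ Nat.card (t : Subgroup G) := Subgroup.card_dvd_of_le ht
        _ = Nat.card (P : Subgroup G) := by rw [t.card_eq_multiplicity, P.card_eq_multiplicity]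
        _ ∣ _ := Subgroup.card_dvd_of_le hPc
    · refine Subgroup.card_dvd_of_le fun a ha => mem_centralizer_singleton_iff.2 ?_
      have hra : Reg p a := reg_of_mem (fun h' => hqp ((Nat.prime_dvd_prime_iff_eq hp.out hq).1
        (hp.out.dvd_of_dvd_pow (hH ▸ h'))).symm) ha
      exact ((mem_centralizer_iff.1 (hreg a hra)) c (mem_inf.1 hc).1).symm
  refine mem_center_iff.2 fun g => ?_
  exact mem_centralizer_singleton_iff.1 (hall.ge (mem_top g))

end CfsgLib.Solv.AbHall
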