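import Cfsg.Agent.Lib.Solv.AbelianHallMinimal.Good
import Cfsg.Agent.Lib.CFun.QdFree

/-!
# The minimal counterexample: fusion of `p`-elements and the `p'`-core of a local subgroup
-/

set_option autoImplicit false
set_option linter.unusedSectionVars false
set_option linter.style.haveILetI false
set_option maxHeartbeats 800000

open Subgroup
open scoped commutatorElement

namespace CfsgLib.Solv.AbHall

universe u

variable {G : Type u} [Group G] [Finite G] {p : ℕ} [hp : Fact p.Prime]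

/-- The lower K-infinity subgroup, as a subgroup of the ambient group. -/
def kI (P : Subgroup G) : Subgroup G := Cfsg.inducedFunctor Cfsg.kInfLower P

theorem kI_le (P : Subgroup G) : kI P ≤ P := CFun.induced_le _ P

theorem le_normalizer_kI {P : Subgroup G} (hP : IsPGroup p P) :
    normalizer (P : Set G) ≤ normalizer (kI P : Set G) :=
  CFun.cfun_normalizer_le (CFun.isConjugacyFunctor_induced CFun.kInfLower_isCharPFunctor) hP

theorem mem_sylow_of_pelt (P : Sylow p G) {v : G} (hv : PElt p v)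
    (hn : v ∈ normalizer ((P : Subgroup G) : Set G)) : v ∈ (P : Subgroup G) := by
  have h := (isPGroup_zpowers hv).inf_normalizer_sylow P
  exact (mem_inf.1 (h.le (mem_inf.2 ⟨mem_zpowers v, hn⟩))).2

variable (hG : Minimal p G)
include hG

theorem p_ne_two : p ≠ 2 := by have := hG.five; omega

/-- The Sylow `p`-subgroup has nontrivial K-infinity subgroup, and that subgroup is proper. -/
theorem kI_proper (P : Sylow p G) : kI (P : Subgroup G) ≠ ⊥ ∧ kI (P : Subgroup G) ≠ ⊤ := by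
  refine ⟨CFun.induced_ne_bot CFun.kInfLower_isCharPFunctor P.2 fun h0 => ?_, fun h1 => ?_⟩
  · have hnd : ¬ p ∣ Nat.card (⊤ : Subgroup G) := by
      rw [Subgroup.card_top]
      intro hd
      have := P.dvd_card_of_dvd_card hd
      rw [h0, Subgroup.card_bot] at this
      exact hp.out.not_dvd_one this
    exact hG.nonsolvable (Group.isSolvable_of_comm fun x y =>
      hG.hyp.comm_mem hnd (mem_top x) (mem_top y))
  · have h2 : (⊤ : Subgroup G) ≤ (P : Subgroup G) := h1 ▸ kI_le _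
    have hpg : IsPGroup p G := fun g => by
      obtain ⟨k, hk⟩ := pelt_of_mem P.2 (h2 (mem_top g))
      exact ⟨k, hk⟩
    haveI : Group.IsNilpotent G := hpg.isNilpotent
    exact hG.nonsolvable inferInstance

/-- A solvable subgroup controlling fusion in `P` has no `p`-quotient. -/
theorem regKer_top_of_control (P : Sylow p G) {M : Subgroup G} (hM : Group.IsSolvable M)
    (hPM : (P : Subgroup G) ≤ M) (hK : normalizer (kI (P : Subgroup G) : Set G) ≤ M) :
    regKer p M = ⊤ := by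
  have hst := CFun.strongAt_of_ctrl CFun.kInfLower_isCharPFunctor
    (CFun.strongCtrl_kInf_of_qdFree (p_ne_two hG) (hG.hyp.qdFree (p_ne_two hG))).1 P
  have hfoc : (P : Subgroup G).focalSubgroup ≤
      ⁅(P : Subgroup G), normalizer (kI (P : Subgroup G) : Set G)⁆ := by
    refine Fusion.focalSubgroup_le_of_control fun x hx g hg => ?_
    obtain ⟨n, hn, he⟩ := hst {x} g (fun a ha => ha ▸ hx) (fun a ha => ha ▸ hg)
    exact ⟨n, hn, he x rfl⟩
  have hcom : commutator G ⊓ (P : Subgroup G) = (P : Subgroup G).focalSubgroup :=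
    Fusion.commutator_inf_eq_focal (Fusion.coprime_card_focalQuotient P)
  rw [hG.commutator_eq_top, top_inf_eq] at hcom
  have hle : (P : Subgroup G) ≤ ⁅M, M⁆ := hcom.le.trans (hfoc.trans (commutator_mono hPM hK))
  refine regKer_eq_top_of_sylow_le (hG.hyp.subgroup M) (P.subtype hPM) fun x hx => ?_
  have hmap : (commutator M).map M.subtype = ⁅M, M⁆ := by
    rw [_root_.commutator_def, map_commutator, ← MonoidHom.range_eq_map, Subgroup.range_subtype]
  obtain ⟨y, hy, hyx⟩ := hmap.ge (hle (mem_subgroupOf.1 hx))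
  exact (Subtype.ext hyx : y = x) ▸ hy

/-- A local subgroup has a nontrivial `p`-quotient. -/
theorem Good.regKer_ne_top {M : Subgroup G} (hM : Good p M) : regKer p M ≠ ⊤ := by
  obtain ⟨r, hr, hrp, R, hR, hV⟩ := hM
  haveI := Fact.mk hr
  intro htop
  obtain ⟨x, hxN, hxp, a, ha, hxa⟩ := exists_mover hG R hrp hR
  have hsol := hG.proper M hV.1.1
  have hxQ : x ∈ Qs p M := pelt_Ks hG.hyp hsol
    ⟨⟨x, hV.2.1 hxN⟩, htop.ge (mem_top _), rfl⟩ hxp
  have h1 : x * a * x⁻¹ * a⁻¹ = 1 := by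
    refine (pelt_of_mem (Qs_isPGroup (p := p) (M := M)) ?_).eq_one (sylow_reg R hrp ?_)
    · rw [show x * a * x⁻¹ * a⁻¹ = x * (a * x⁻¹ * a⁻¹) by group]
      exact mul_mem hxQ (Coprime.conj_mem_of_le_normalizer Qs_normalized (hV.le ha) (inv_mem hxQ))
    · exact mul_mem ((mem_normalizer_iff.1 hxN a).1 ha) (inv_mem ha)
  exact hxa (commutatorElement_eq_one_iff_mul_comm.1 (by rw [commutatorElement_def]; exact h1))

theorem Good.not_control {M : Subgroup G} (hM : Good p M) (P : Sylow p G)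
    (hPM : (P : Subgroup G) ≤ M) : ¬ normalizer (kI (P : Subgroup G) : Set G) ≤ M := fun hK =>
  hM.regKer_ne_top hG (regKer_top_of_control hG P (hM.solvable hG) hPM hK)

/-- The normalizer of the K-infinity subgroup is the normalizer of `P`. -/
theorem normalizer_data (P : Sylow p G) :
    normalizer (kI (P : Subgroup G) : Set G) ≤ normalizer ((P : Subgroup G) : Set G) ∧
      (∀ x ∈ normalizer ((P : Subgroup G) : Set G), ∀ y ∈ normalizer ((P : Subgroup G) : Set G),
        x * y * x⁻¹ * y⁻¹ ∈ (P : Subgroup G)) ∧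
      ∃ a ∈ normalizer ((P : Subgroup G) : Set G), Reg p a ∧ a ≠ 1 := by
  set X := normalizer (kI (P : Subgroup G) : Set G)
  obtain ⟨h0, h1⟩ := kI_proper hG P
  have hX : X ≠ ⊤ := hG.normalizer_ne_top h0 h1
  have hsol := hG.proper X hX
  have hPX : (P : Subgroup G) ≤ X := le_normalizer.trans (le_normalizer_kI P.2)
  have htop := regKer_top_of_control hG P hsol hPX le_rfl
  have hP : (P : Subgroup G) = Qs p X := by
    refine le_antisymm (fun x hx => pelt_Ks hG.hyp hsol ⟨⟨x, hPX hx⟩, htop.ge (mem_top _), rfl⟩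
      (pelt_of_mem P.2 hx)) ?_
    rintro _ ⟨y, hy, rfl⟩
    exact mem_subgroupOf.1 (Coprime.pCore_le_sylow (P.subtype hPX) hy)
  refine ⟨?_, fun x hx y hy => ?_, ?_⟩
  · rw [hP]; exact Qs_normalized
  · rw [hP]
    exact commutator_Ks hG.hyp hsol
      ⟨⟨x, le_normalizer_kI P.2 hx⟩, htop.ge (mem_top _), rfl⟩
      ⟨⟨y, le_normalizer_kI P.2 hy⟩, htop.ge (mem_top _), rfl⟩
  · by_contra hno
    push Not at hno
    have hXP : X ≤ (P : Subgroup G) := by
      intro x hx
      obtain ⟨v, k, hv, hk, rfl, hvp, hkr⟩ := exists_split p x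
      have hkX : k ∈ X := zpowers_le.2 hx hk
      have hk1 : k = 1 := hno k (by rw [hP]; exact Qs_normalized hkX) hkr
      rw [hk1, mul_one] at hx ⊢
      rw [hP]
      exact pelt_Ks hG.hyp hsol ⟨⟨v, hx⟩, htop.ge (mem_top _), rfl⟩ hvp
    have heq : X = (P : Subgroup G) := le_antisymm hXP hPX
    haveI : Group.IsSolvable X := hsol
    have hne : Nontrivial X := (Subgroup.nontrivial_iff_ne_bot X).2 fun hb =>
      h0 (le_bot_iff.1 ((kI_le _).trans (hPX.trans hb.le)))
    refine (Group.IsSolvable.commutator_lt_top_of_nontrivial (G := X)).ne (eq_top_iff.2 ?_)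
    intro x _
    have hst := CFun.strongAt_of_ctrl CFun.kInfLower_isCharPFunctor
      (CFun.strongCtrl_kInf_of_qdFree (p_ne_two hG) (hG.hyp.qdFree (p_ne_two hG))).1 P
    have hfoc : (P : Subgroup G).focalSubgroup ≤ ⁅(P : Subgroup G), X⁆ := by
      refine Fusion.focalSubgroup_le_of_control fun x hx g hg => ?_
      obtain ⟨n, hn, he⟩ := hst {x} g (fun a ha => ha ▸ hx) (fun a ha => ha ▸ hg)
      exact ⟨n, hn, he x rfl⟩
    have hcom : commutator G ⊓ (P : Subgroup G) = (P : Subgroup G).focalSubgroup :=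
      Fusion.commutator_inf_eq_focal (Fusion.coprime_card_focalQuotient P)
    rw [hG.commutator_eq_top, top_inf_eq] at hcom
    have hle : X ≤ ⁅X, X⁆ := heq.le.trans
      (hcom.le.trans (hfoc.trans (commutator_mono hPX le_rfl)))
    have hmap : (commutator X).map X.subtype = ⁅X, X⁆ := by
      rw [_root_.commutator_def, map_commutator, ← MonoidHom.range_eq_map, Subgroup.range_subtype]
    obtain ⟨y, hy, hyx⟩ := hmap.ge (hle x.2)
    exact (Subtype.ext hyx : y = x) ▸ hy

/-- No regular element of a local subgroup containing `P` normalizes `P`. -/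
theorem Good.eq_one_of_normalizes {M : Subgroup G} (hM : Good p M) (P : Sylow p G)
    (hPM : (P : Subgroup G) ≤ M) {y : G} (hy : y ∈ M)
    (hn : y ∈ normalizer ((P : Subgroup G) : Set G)) (hr : Reg p y) : y = 1 := by
  by_contra hy1
  obtain ⟨h1, h2, -⟩ := normalizer_data hG P
  refine hM.not_control hG P hPM (h1.trans fun x hx => hM.mem_of_conj hG hy hr hy1 ?_)
  rw [show x * y * x⁻¹ = x * y * x⁻¹ * y⁻¹ * y by group]
  exact mul_mem (hPM (h2 x hx y hn)) hy

/-- The `p'`-core of a local subgroup is nontrivial. -/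
theorem Good.Fs_ne_bot {M : Subgroup G} (hM : Good p M) : Fs p M ≠ ⊥ := by
  intro hF
  have hsol := hM.solvable hG
  have hcore : Cfsg.pPrimeCore p M = ⊥ :=
    (Subgroup.map_eq_bot_iff_of_injective _ M.subtype_injective).1 hF
  haveI := hsol
  have hcon := Coprime.centralizer_pCore_le (p := p) (G := M) hcore
  obtain ⟨S⟩ := (inferInstance : Nonempty (Sylow p M))
  have hfreeM := (hG.hyp.subgroup M).qdFree (p_ne_two hG)
  have hn := (CFun.kInf_normal_of_qdFree (p_ne_two hG) hfreeM hcon S).1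
  set P₂ := (S : Subgroup M).map M.subtype with hP₂
  have hP₂p : IsPGroup p P₂ := S.2.map _
  have hSne : (S : Subgroup M) ≠ ⊥ := by
    intro h0
    have h1 : Cfsg.pCore p M = ⊥ := le_bot_iff.1 ((Coprime.pCore_le_sylow S).trans h0.le)
    rw [h1] at hcon
    obtain ⟨r, hr, -, R, hR, hV⟩ := hM
    obtain ⟨a, ha, ha1⟩ := exists_ne_one_of_ne_bot' hR
    refine ha1 (congrArg Subtype.val (mem_bot.1 (hcon (x := ⟨a, hV.le ha⟩) ?_)))
    exact mem_centralizer_iff.2 fun z hz => by
      rw [SetLike.mem_coe, mem_bot] at hz; subst hz; simp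
  set K := kI P₂ with hKdef
  have hKmap : K = (Cfsg.inducedFunctor Cfsg.kInfLower (S : Subgroup M)).map M.subtype :=
    CFun.induced_map CFun.kInfLower_isCharPFunctor S.2 M.subtype M.subtype_injective
  have hK0 : K ≠ ⊥ := CFun.induced_ne_bot CFun.kInfLower_isCharPFunctor hP₂p fun h0 =>
    hSne ((Subgroup.map_eq_bot_iff_of_injective _ M.subtype_injective).1 h0)
  have hKM : K ≤ M := (kI_le P₂).trans (map_subtype_le _)
  have hK1 : K ≠ ⊤ := fun h1 => hM.coatom.1 (top_le_iff.1 (h1 ▸ hKM))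
  have hNK : normalizer (K : Set G) = M :=
    hM.eq_of_le (by rw [hKmap]; exact le_normalizer_map hn) (hG.normalizer_ne_top hK0 hK1)
  obtain ⟨P, hP⟩ := hP₂p.exists_le_sylow
  have hPeq : P₂ = (P : Subgroup G) := by
    by_contra hne
    have hlt := CFun.lt_inf_normalizer_sylow P hP hne
    have hU : (P : Subgroup G) ⊓ normalizer (P₂ : Set G) ≤ M :=
      inf_le_right.trans ((le_normalizer_kI hP₂p).trans hNK.le)
    refine hlt.not_ge ?_
    intro x hx
    have h1 : ((P : Subgroup G) ⊓ normalizer (P₂ : Set G)).subgroupOf M = (S : Subgroup M) :=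
      S.is_maximal' ((P.2.to_le inf_le_left).of_equiv (Subgroup.subgroupOfEquivOfLe hU).symm)
        fun y hy => mem_subgroupOf.2 (mem_inf.2
          ⟨hP ⟨y, hy, rfl⟩, le_normalizer (⟨y, hy, rfl⟩ : (y : G) ∈ P₂)⟩)
    exact ⟨⟨x, hU hx⟩, h1 ▸ mem_subgroupOf.2 hx, rfl⟩
  have hPM : (P : Subgroup G) ≤ M := hPeq ▸ map_subtype_le _
  refine hM.not_control hG P hPM ?_
  rw [← hPeq]
  exact hNK.le

/-! ## Fixed points of `p`-elements -/

theorem Fs_inf_sylow_normal {M : Subgroup G} (hM : Good p M) {s : ℕ} [Fact s.Prime]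
    (S : Sylow s G) (hsp : s ≠ p) (hV : Via M S) {m a : G} (hm : m ∈ M)
    (ha : a ∈ Fs p M ⊓ (S : Subgroup G)) : m * a * m⁻¹ ∈ Fs p M ⊓ (S : Subgroup G) := by
  obtain ⟨haF, haS⟩ := mem_inf.1 ha
  have hF := Coprime.conj_mem_of_le_normalizer Fs_normalized hm haF
  obtain ⟨q, hq, hn⟩ := exists_Qs_mul_normalizer hG (hM.solvable hG) S hsp hV.le hm
  set n := q⁻¹ * m
  have hρ : n * a * n⁻¹ ∈ (S : Subgroup G) := (mem_normalizer_iff.1 (mem_inf.1 hn).2 a).1 haS
  have hnF : n * a * n⁻¹ ∈ Fs p M :=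
    Coprime.conj_mem_of_le_normalizer Fs_normalized (mem_inf.1 hn).1 haF
  have : m * a * m⁻¹ = n * a * n⁻¹ := by
    calc m * a * m⁻¹ = q * (n * a * n⁻¹) * q⁻¹ := by simp only [n]; group
      _ = n * a * n⁻¹ := by rw [Qs_comm_Fs hq hnF, mul_inv_cancel_right]
  exact mem_inf.2 ⟨hF, this ▸ hρ⟩

/-- A `p`-element fixing a point of `O_{p'}(M) ∩ S` fixes a noncyclic subgroup of it. -/
theorem fixed_not_cyclic {M : Subgroup G} (hM : Good p M) {s : ℕ} [hs : Fact s.Prime]
    (S : Sylow s G) (hsp : s ≠ p) (hV : Via M S) {x a : G} (hx : x ∈ M) (hxp : PElt p x)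
    (ha : a ∈ Fs p M ⊓ (S : Subgroup G)) (ha1 : a ≠ 1) (hxa : x * a = a * x) :
    ¬ IsCyclic ↥(Fs p M ⊓ (S : Subgroup G) ⊓ centralizer ({x} : Set G)) := by
  intro hc
  set V := Fs p M ⊓ (S : Subgroup G) with hVdef
  set V' := V.subgroupOf M
  haveI : V'.Normal := ⟨fun v hv m => Fs_inf_sylow_normal hG hM S hsp hV m.2 hv⟩
  set x' : M := ⟨x, hx⟩
  set C' := V' ⊓ centralizer ({x'} : Set M)
  have hCeq : C' = (V ⊓ centralizer ({x} : Set G)).subgroupOf M := by
    ext v
    simp only [C', V', mem_inf, mem_subgroupOf, mem_centralizer_singleton_iff, Subtype.ext_iff,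
      Subgroup.coe_mul, x']
  haveI : IsCyclic C' := by
    rw [hCeq]
    exact isCyclic_of_injective (Subgroup.subgroupOfEquivOfLe
      (inf_le_left.trans (inf_le_left.trans Fs_le) : V ⊓ centralizer ({x} : Set G) ≤ M)).toMonoidHom
      (Subgroup.subgroupOfEquivOfLe _).injective
  have hxp' : PElt p x' := by
    obtain ⟨k, hk⟩ := hxp
    exact ⟨k, Subtype.ext (by simpa [x'] using hk)⟩
  have hsd : s ∣ Nat.card G := dvd_card hG S hsp fun h0 =>
    ha1 (mem_bot.1 (h0 ▸ (mem_inf.1 ha).2))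
  have hlt := prime_succ_lt hG hsp hsd
  have hcen := fixed_le_center hs.out (show s < p by omega) V'
    ((S.2.to_le inf_le_right).of_equiv
      (Subgroup.subgroupOfEquivOfLe (inf_le_left.trans Fs_le : V ≤ M)).symm)
    (fun y hy => mem_centralizer_iff.2 fun v hv => Subtype.ext
      (reg_comm_Fs hG.hyp y.2 (reg_subtype.1 hy) (mem_inf.1 hv).1).symm) hxp'
    (show (⟨a, Fs_le (mem_inf.1 ha).1⟩ : M) ∈ C' from mem_inf.2 ⟨ha,
      mem_centralizer_singleton_iff.2 (Subtype.ext hxa.symm)⟩)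
  exact ha1 (eq_one_of_centralizes_normalizer hG S hsp (mem_inf.1 ha).2 fun n hn =>
    congrArg Subtype.val ((mem_center_iff.1 hcen) ⟨n, hV.2.1 hn⟩))

/-- The elements of `S` fixed by `x` modulo `O_p(M)` form a noncyclic group or are trivial. -/
theorem fixedMod_not_cyclic {M : Subgroup G} (hM : Good p M) {s : ℕ} [hs : Fact s.Prime]
    (S : Sylow s G) (hsp : s ≠ p) (hV : Via M S) {x a : G} (hx : x ∈ M) (hxp : PElt p x)
    (ha : a ∈ (S : Subgroup G)) (ha1 : a ≠ 1) (hxa : x * a * x⁻¹ * a⁻¹ ∈ Qs p M)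
    (C₀ : Subgroup G)
    (hC₀ : ∀ b, b ∈ C₀ ↔ b ∈ (S : Subgroup G) ∧ x * b * x⁻¹ * b⁻¹ ∈ Qs p M) : ¬ IsCyclic C₀ := by
  intro hc
  have hsol := hM.solvable hG
  haveI := hsol
  set π := QuotientGroup.mk' (Cfsg.pCore p M) with hπ
  set V := ((S : Subgroup G).subgroupOf M).map π with hVdef
  haveI : V.Normal := by
    refine ⟨fun v hv q => ?_⟩
    obtain ⟨b, hb, rfl⟩ := hv
    obtain ⟨m, rfl⟩ := QuotientGroup.mk_surjective q
    obtain ⟨t, ht, hn⟩ := exists_Qs_mul_normalizer hG hsol S hsp hV.le m.2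
    obtain ⟨t', ht', rfl⟩ := ht
    set n : M := ⟨(t' : G)⁻¹ * m, (mem_inf.1 hn).1⟩
    refine ⟨n * b * n⁻¹, mem_subgroupOf.2 ((mem_normalizer_iff.1 (mem_inf.1 hn).2 b).1 hb), ?_⟩
    have hm : m = t' * n := Subtype.ext (by simp [n])
    show π (n * b * n⁻¹) = π m * π b * (π m)⁻¹
    rw [hm, map_mul π t' n, show π t' = 1 from (QuotientGroup.eq_one_iff t').2 ht', one_mul,
      map_mul, map_mul, map_inv]
  set x' : M := ⟨x, hx⟩
  set C' := V ⊓ centralizer ({π x'} : Set (↥M ⧸ Cfsg.pCore p M))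
  have hC₀M : C₀ ≤ M := fun b hb => hV.le ((hC₀ b).1 hb).1
  have hmem : ∀ b : M, (b : G) ∈ (S : Subgroup G) →
      (π b ∈ centralizer ({π x'} : Set (↥M ⧸ Cfsg.pCore p M)) ↔ (b : G) ∈ C₀) := by
    intro b hb
    rw [mem_centralizer_singleton_iff, hC₀, and_iff_right hb, eq_comm,
      ← commutatorElement_eq_one_iff_mul_comm, ← map_commutatorElement π,
      hπ, QuotientGroup.mk'_apply, QuotientGroup.eq_one_iff, commutatorElement_def]
    exact ⟨fun h => ⟨_, h, rfl⟩, fun h => (mem_map_subtype_iff.1 h).choose_spec⟩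
  haveI : IsCyclic C' := by
    haveI : IsCyclic (C₀.subgroupOf M) := isCyclic_of_injective
      (Subgroup.subgroupOfEquivOfLe hC₀M).toMonoidHom (Subgroup.subgroupOfEquivOfLe hC₀M).injective
    haveI : IsCyclic ↥((C₀.subgroupOf M).map π) :=
      isCyclic_of_surjective (π.subgroupMap (C₀.subgroupOf M)) (π.subgroupMap_surjective _)
    have hle : C' ≤ (C₀.subgroupOf M).map π := by
      intro v hv
      obtain ⟨⟨b, hb, rfl⟩, hvc⟩ := mem_inf.1 hv
      exact ⟨b, mem_subgroupOf.2 ((hmem b hb).1 hvc), rfl⟩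
    exact isCyclic_of_injective (Subgroup.inclusion hle) (Subgroup.inclusion_injective hle)
  have hsd : s ∣ Nat.card G := dvd_card hG S hsp fun h0 => ha1 (mem_bot.1 (h0 ▸ ha))
  have hlt := prime_succ_lt hG hsp hsd
  have hq := hyp_quotient_pCore (hG.hyp.subgroup M)
  set a' : M := ⟨a, hV.le ha⟩
  have hcen : π a' ∈ center (↥M ⧸ Cfsg.pCore p M) := by
    refine fixed_le_center hs.out (show s < p by omega) V ?_ ?_
      ((show PElt p x' by
        obtain ⟨k, hk⟩ := hxp
        exact ⟨k, Subtype.ext (by simpa [x'] using hk)⟩).map π)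
      (mem_inf.2 ⟨mem_map_of_mem _ (mem_subgroupOf.2 ha), (hmem a' ha).2 ((hC₀ a).2 ⟨ha, hxa⟩)⟩)
    · exact ((S.2).of_equiv (Subgroup.subgroupOfEquivOfLe hV.le).symm).map π
    · intro y hy
      refine mem_centralizer_iff.2 fun v hv => ?_
      obtain ⟨b, hb, rfl⟩ := hv
      have hO := Coprime.pCore_quotient_eq_bot (G := M) p
      exact hq.comm_mem (Coprime.pPrimeCore_not_dvd hp.out)
        (hq.reg_mem_pPrimeCore hO ((reg_subtype.2 (sylow_reg S hsp hb) : Reg p b).map π))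
        (hq.reg_mem_pPrimeCore hO hy)
  refine ha1 (eq_one_of_centralizes_normalizer hG S hsp ha fun n hn => ?_)
  set n' : M := ⟨n, hV.2.1 hn⟩
  have h1 := (mem_center_iff.1 hcen) (π n')
  rw [← commutatorElement_eq_one_iff_mul_comm, ← map_commutatorElement π, hπ,
    QuotientGroup.mk'_apply, QuotientGroup.eq_one_iff] at h1
  have h2 : n * a * n⁻¹ * a⁻¹ ∈ Qs p M := ⟨_, h1, by simp [n', a', commutatorElement_def]⟩
  have h3 : n * a * n⁻¹ * a⁻¹ = 1 := (pelt_of_mem Qs_isPGroup h2).eq_one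
    (sylow_reg S hsp (mul_mem ((mem_normalizer_iff.1 hn a).1 ha) (inv_mem ha)))
  exact commutatorElement_eq_one_iff_mul_comm.1 (by rw [commutatorElement_def]; exact h3)

/-- Lemma Y: a proper subgroup containing a noncyclic subgroup of `O_{p'}(M)` lies in `M`. -/
theorem Good.le_of_noncyclic {M X Y : Subgroup G} (hM : Good p M) (hX : X ≠ ⊤)
    (hY : Y ≤ Fs p M) (hYc : ¬ IsCyclic Y) (hYX : Y ≤ X) : X ≤ M := by
  have hsolX := hG.proper X hX
  obtain ⟨y, hy, hy1⟩ := exists_ne_one_of_ne_bot' (show Y ≠ ⊥ from fun h0 => hYc (h0 ▸ inferInstance))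
  by_cases hF : Fs p X = ⊥
  · exfalso
    haveI := hsolX
    have hcon := Coprime.centralizer_pCore_le (p := p) (G := X)
      ((Subgroup.map_eq_bot_iff_of_injective _ X.subtype_injective).1 hF)
    haveI : IsMulCommutative Y :=
      ⟨⟨fun a b => Subtype.ext (Fs_comm hG.hyp (hY a.2) (hY b.2))⟩⟩
    have hTM : Qs p X ≤ M := by
      refine Coprime.le_of_centralizers_le (A := Y) hYc (hYX.trans Qs_normalized) ?_ fun b hb hb1 =>
        inf_le_right.trans (hM.centralizer_le hG (Fs_le (hY hb)) (Fs_reg (hY hb)) hb1)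
      obtain ⟨i, hi⟩ := IsPGroup.iff_card.1 (Qs_isPGroup (p := p) (M := X))
      rw [hi]
      refine (Nat.Coprime.pow_left i ((hp.out.coprime_iff_not_dvd).2 fun hd => ?_)).symm
      exact Fs_not_dvd (hd.trans (Subgroup.card_dvd_of_le hY))
    have hyT : (⟨y, hYX hy⟩ : X) ∈ centralizer (Cfsg.pCore p X : Set X) := by
      refine mem_centralizer_iff.2 fun t ht => Subtype.ext ?_
      have htQ : (t : G) ∈ Qs p X := ⟨t, ht, rfl⟩
      show (t : G) * y = y * t
      refine commutatorElement_eq_one_iff_mul_comm.1 ?_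
      rw [commutatorElement_def]
      refine (pelt_of_mem (Qs_isPGroup (p := p) (M := X)) ?_).eq_one (Fs_reg (M := M) ?_)
      · rw [show (t : G) * y * (t : G)⁻¹ * y⁻¹ = t * (y * (t : G)⁻¹ * y⁻¹) by group]
        exact mul_mem htQ (Coprime.conj_mem_of_le_normalizer Qs_normalized (hYX hy) (inv_mem htQ))
      · exact mul_mem (Coprime.conj_mem_of_le_normalizer Fs_normalized (hTM htQ) (hY hy))
          (inv_mem (hY hy))
    exact hy1 ((pelt_of_mem (Qs_isPGroup (p := p) (M := X)) ⟨_, hcon hyT, rfl⟩).eq_one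
      (Fs_reg (hY hy)))
  · obtain ⟨k, hk, hk1⟩ := exists_ne_one_of_ne_bot' hF
    have hle : Fs p X ≤ M := fun f hf => hM.centralizer_le hG (Fs_le (hY hy)) (Fs_reg (hY hy)) hy1
      (mem_centralizer_singleton_iff.2
        (reg_comm_Fs hG.hyp (hYX hy) (Fs_reg (hY hy)) hf).symm)
    exact fun x hx => hM.mem_of_conj hG (hle hk) (Fs_reg hk) hk1
      (hle (Coprime.conj_mem_of_le_normalizer Fs_normalized hx hk))

/-- A nontrivial `p`-element of `M` fixing a point of `O_{p'}(M)` has its centralizer in `M`; and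
its fixed points contain a noncyclic subgroup. -/
theorem Good.exists_fixed_noncyclic {M : Subgroup G} (hM : Good p M) {x f : G} (hx : x ∈ M)
    (hxp : PElt p x) (hf : f ∈ Fs p M) (hf1 : f ≠ 1) (hxf : x * f = f * x) :
    ∃ Y : Subgroup G, Y ≤ Fs p M ∧ ¬ IsCyclic Y ∧ Y ≤ centralizer ({x} : Set G) := by
  obtain ⟨a, haf, hao, hap⟩ := exists_prime_pow_of_reg (Fs_reg hf) hf1
  haveI := Fact.mk hao
  have haF : a ∈ Fs p M := zpowers_le.2 hf haf
  obtain ⟨S, haS, -, hV⟩ := hM.via_of_mem hG (Fs_le haF) hao rfl hap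
  obtain ⟨i, rfl⟩ := mem_zpowers_iff.1 haf
  exact ⟨_, inf_le_left.trans inf_le_left,
    fixed_not_cyclic hG hM S hap hV hx hxp (mem_inf.2 ⟨haF, haS⟩) (ne_one_of_prime_order hao)
      (Commute.zpow_right hxf i), inf_le_right⟩

theorem Good.centralizer_pelt_le {M : Subgroup G} (hM : Good p M) {x f : G} (hx : x ∈ M)
    (hxp : PElt p x) (hx1 : x ≠ 1) (hf : f ∈ Fs p M) (hf1 : f ≠ 1) (hxf : x * f = f * x) :
    centralizer ({x} : Set G) ≤ M := by
  obtain ⟨Y, hYF, hYc, hYx⟩ := hM.exists_fixed_noncyclic hG hx hxp hf hf1 hxf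
  exact hM.le_of_noncyclic hG (hG.centralizer_ne_top hx1) hYF hYc hYx

/-- When `M` contains a Sylow `p`-subgroup, `M = O_{p'}(M) P`. -/
theorem Good.eq_mul_of_full {M : Subgroup G} (hM : Good p M) (P : Sylow p G)
    (hPM : (P : Subgroup G) ≤ M) {m : G} (hm : m ∈ M) :
    ∃ f ∈ Fs p M, f⁻¹ * m ∈ (P : Subgroup G) := by
  have hsol := hM.solvable hG
  haveI := hsol
  set O := Cfsg.pPrimeCore p M with hO
  haveI : O.Normal := Subgroup.sSup_normal _ (fun _ h => h.1)
  set π := QuotientGroup.mk' O with hπ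
  have hπs : Function.Surjective π := QuotientGroup.mk'_surjective O
  haveI : Group.IsSolvable (↥M ⧸ O) := Group.isSolvable_of_surjective hπs
  set P' : Sylow p M := P.subtype hPM
  set Pb : Sylow p (↥M ⧸ O) := P'.mapSurjective hπs with hPb
  have hPbcoe : (Pb : Subgroup (↥M ⧸ O)) = (P' : Subgroup M).map π := Sylow.coe_mapSurjective _ _
  have hfreeM := (hG.hyp.subgroup M).qdFree (p_ne_two hG)
  have hfreeB : ¬ Cfsg.Involves ↥(Cfsg.qd p) (↥M ⧸ O) := fun h =>
    hfreeM (Fusion.involves_of_surjective π hπs h)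
  have hnb := (CFun.kInf_normal_of_qdFree (p_ne_two hG) hfreeB
    (Coprime.centralizer_pCore_le (Coprime.pPrimeCore_quotient_eq_bot hp.out)) Pb).1
  -- the restriction of `π` to `P'` is injective
  have hinj : Function.Injective (π.subgroupMap (P' : Subgroup M)) := by
    refine (injective_iff_map_eq_one _).2 fun z hz => Subtype.ext ?_
    have hzO : (z : M) ∈ O := (QuotientGroup.eq_one_iff _).1 (congrArg Subtype.val hz)
    exact (pelt_of_mem P'.2 z.2).eq_one (reg_of_mem_pPrimeCore hzO)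
  set e : (P' : Subgroup M) ≃* ↥((P' : Subgroup M).map π) :=
    MulEquiv.ofBijective (π.subgroupMap _) ⟨hinj, π.subgroupMap_surjective _⟩
  have hKb : Cfsg.inducedFunctor Cfsg.kInfLower (Pb : Subgroup (↥M ⧸ O)) =
      (Cfsg.inducedFunctor Cfsg.kInfLower (P' : Subgroup M)).map π := by
    rw [hPbcoe]
    exact CFun.induced_of_equiv CFun.kInfLower_isCharPFunctor P'.2 e π fun _ => rfl
  set K' := Cfsg.inducedFunctor Cfsg.kInfLower (P' : Subgroup M) with hK'
  have hK'p : IsPGroup p K' := P'.2.to_le (CFun.induced_le _ _)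
  set L := K' ⊔ O with hL
  haveI : L.Normal := by
    rw [show L = ((Cfsg.inducedFunctor Cfsg.kInfLower (Pb : Subgroup (↥M ⧸ O)))).comap π by
      rw [hKb, Subgroup.comap_map_eq, QuotientGroup.ker_mk']]
    exact hnb.comap π
  -- `K'` is a Sylow subgroup of `L`
  have hOr : ∀ z : M, z ∈ O → Reg p z := fun z hz => reg_of_mem_pPrimeCore hz
  have hnd : ¬ p ∣ K'.relIndex L := by
    intro hd
    have hdvd : K'.relIndex L ∣ Nat.card O := by
      have h1 : Nat.card L ∣ Nat.card K' * Nat.card O := Coprime.card_sup_dvd_of_normal _ _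
      have h2 : Nat.card K' * K'.relIndex L = Nat.card L := by
        rw [← Subgroup.relIndex_bot_left K', ← Subgroup.relIndex_bot_left L,
          Subgroup.relIndex_mul_relIndex _ _ _ bot_le le_sup_left]
      rw [← h2] at h1
      exact (Nat.mul_dvd_mul_iff_left Nat.card_pos).1 h1
    exact Coprime.pPrimeCore_not_dvd hp.out (hd.trans hdvd)
  set m' : M := ⟨m, hm⟩
  obtain ⟨n, hn, hle⟩ := Fusion.exists_conj_le_of_not_dvd_relIndex hK'p le_sup_left hnd
    (hK'p.map (MulAut.conj m').toMonoidHom) (by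
      rintro _ ⟨z, hz, rfl⟩
      exact Subgroup.Normal.conj_mem inferInstance z (mem_sup_left hz) _)
  obtain ⟨o, ho, k, hk, hok⟩ := Coprime.mem_sup_exists (N := O) (H := K')
    (by rw [Subgroup.normalizer_eq_top O]; exact le_top) (show n ∈ O ⊔ K' by rwa [sup_comm] at hn)
  set w : M := k⁻¹ * o * k * m' with hw
  have ho' : k⁻¹ * o * k ∈ O := by
    simpa using Subgroup.Normal.conj_mem (H := O) inferInstance o ho k⁻¹
  have hwK : ∀ z ∈ K', w * z * w⁻¹ ∈ K' := by
    intro z hz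
    have h1 : n * (m' * z * m'⁻¹) * n⁻¹ ∈ K' := hle ⟨m' * z * m'⁻¹, ⟨z, hz, rfl⟩, rfl⟩
    rw [← hok] at h1
    have h2 := mul_mem (mul_mem (inv_mem hk) h1) hk
    rw [show k⁻¹ * (o * k * (m' * z * m'⁻¹) * (o * k)⁻¹) * k = w * z * w⁻¹ by
      simp only [hw]; group] at h2
    exact h2
  have hwK' : w ∈ normalizer (K' : Set M) := by
    rw [mem_normalizer_iff_map_conj_eq]
    refine Subgroup.eq_of_le_of_card_ge ?_ (Subgroup.card_map_of_injective
      (MulAut.conj _).injective).ge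
    rintro _ ⟨z, hz, rfl⟩
    exact hwK z hz
  have hKG : kI (P : Subgroup G) = K'.map M.subtype := by
    have h1 := CFun.induced_map CFun.kInfLower_isCharPFunctor P'.2 M.subtype M.subtype_injective
    rwa [show (P' : Subgroup M).map M.subtype = (P : Subgroup G) from
      Subgroup.map_subgroupOf_eq_of_le hPM] at h1
  have hwG : (w : G) ∈ normalizer (kI (P : Subgroup G) : Set G) := by
    rw [hKG]
    exact (Subgroup.le_normalizer_map M.subtype) ⟨w, hwK', rfl⟩
  have hwN := (normalizer_data hG P).1 hwG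
  obtain ⟨v, u, hv, hu, hvu, hvp, hur⟩ := exists_split p (w : G)
  have hu1 : u = 1 := hM.eq_one_of_normalizes hG P hPM (zpowers_le.2 w.2 hu)
    (zpowers_le.2 hwN hu) hur
  rw [hu1, mul_one] at hvu
  subst hvu
  refine ⟨((k⁻¹ * o * k)⁻¹ : M), ⟨_, inv_mem ho', rfl⟩, ?_⟩
  rw [show ((((k⁻¹ * o * k)⁻¹ : M)) : G)⁻¹ * m = (w : G) by simp [hw, m']]
  exact mem_sylow_of_pelt P hvp hwN

/-- When `M` contains a Sylow `p`-subgroup, its regular elements form `O_{p'}(M)`. -/
theorem Good.reg_mem_Fs {M : Subgroup G} (hM : Good p M) (P : Sylow p G)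
    (hPM : (P : Subgroup G) ≤ M) {y : G} (hy : y ∈ M) (hr : Reg p y) : y ∈ Fs p M := by
  obtain ⟨f, hf, hfy⟩ := hM.eq_mul_of_full hG P hPM hy
  haveI : (Cfsg.pPrimeCore p M).Normal := Subgroup.sSup_normal _ (fun _ h => h.1)
  set π := QuotientGroup.mk' (Cfsg.pPrimeCore p M)
  obtain ⟨f', hf', rfl⟩ := hf
  set z : M := ⟨(f' : G)⁻¹ * y, hPM hfy⟩
  have hy' : (⟨y, hy⟩ : M) = f' * z := Subtype.ext (by simp [z])
  have h1 : Reg p (π z) := by
    have h2 := (show Reg p (⟨y, hy⟩ : M) from reg_subtype.2 hr).map π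
    rwa [hy', map_mul, show π f' = 1 from (QuotientGroup.eq_one_iff f').2 hf', one_mul] at h2
  have h3 : π z = 1 := by
    refine (PElt.map π ?_).eq_one h1
    obtain ⟨k, hk⟩ := pelt_of_mem P.2 hfy
    exact ⟨k, Subtype.ext (by simpa [z] using hk)⟩
  exact ⟨⟨y, hy⟩, hy' ▸ mul_mem hf' ((QuotientGroup.eq_one_iff z).1 h3), rfl⟩

end CfsgLib.Solv.AbHall
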