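import Cfsg.Agent.Lib.Solv.AbelianHallMinimal.Gamma

/-!
# The minimal counterexample does not exist: counting elements
-/

set_option autoImplicit false
set_option linter.unusedSectionVars false
set_option linter.style.haveILetI false
set_option maxHeartbeats 800000

open Subgroup

namespace CfsgLib.Solv.AbHall

universe u

variable {G : Type u} [Group G] [Finite G] {p : ℕ} [hp : Fact p.Prime]

/-- The conjugates of a conjugation-invariant subset of `M` number at most `|G : M|` times as many. -/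
theorem card_conj_le (M : Subgroup G) (A : G → Prop) (hA : ∀ m ∈ M, ∀ a, A a → A (m * a * m⁻¹)) :
    Nat.card {g : G // ∃ h, A (h * g * h⁻¹)} * Nat.card M ≤ Nat.card G * Nat.card {a : G // A a} := by
  classical
  rw [← Nat.card_prod, ← Nat.card_prod]
  refine Nat.card_le_card_of_injective
    (fun x => ((x.2 : G) * x.1.2.choose,
      (⟨(x.2 : G) * (x.1.2.choose * x.1.1 * x.1.2.choose⁻¹) * (x.2 : G)⁻¹,
        hA _ x.2.2 _ x.1.2.choose_spec⟩ : {a : G // A a}))) ?_
  rintro ⟨⟨g, hg⟩, m⟩ ⟨⟨g', hg'⟩, m'⟩ he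
  simp only [Prod.mk.injEq, Subtype.mk.injEq] at he
  obtain ⟨h1, h2⟩ := he
  have hgg : g = g' := by
    calc g = ((m : G) * hg.choose)⁻¹ * ((m : G) * (hg.choose * g * hg.choose⁻¹) * (m : G)⁻¹) *
        ((m : G) * hg.choose) := by group
      _ = ((m' : G) * hg'.choose)⁻¹ * ((m' : G) * (hg'.choose * g' * hg'.choose⁻¹) * (m' : G)⁻¹) *
        ((m' : G) * hg'.choose) := by rw [h1, h2]
      _ = g' := by group
  subst hgg
  exact Prod.ext rfl (Subtype.ext (mul_right_cancel h1))

theorem two_mul_card_primes_le {n : ℕ} (hn : n ≠ 0) {I : Finset ℕ}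
    (hI : I ⊆ n.primeFactors) : 2 * I.card ≤ n := by
  rcases Finset.eq_empty_or_nonempty I with rfl | hne
  · simp
  have h1 : 2 ^ I.card ≤ ∏ i ∈ I, i :=
    Finset.pow_card_le_prod I id 2 fun i hi => (Nat.prime_of_mem_primeFactors (hI hi)).two_le
  have h2 : (∏ i ∈ I, i) ∣ n :=
    (Finset.prod_dvd_prod_of_subset _ _ _ hI).trans (Nat.prod_primeFactors_dvd n)
  have h3 : 2 * I.card ≤ 2 ^ I.card := by
    obtain ⟨k, hk⟩ := Nat.exists_eq_add_of_le' hne.card_pos
    rw [hk, pow_succ]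
    have := Nat.lt_two_pow_self (n := k)
    omega
  have := Nat.le_of_dvd (Nat.pos_of_ne_zero hn) h2
  omega

theorem card_nontrivial_pairs (P : Sylow p G) :
    Nat.card {x : Sylow p G × G // x.2 ∈ (x.1 : Subgroup G) ∧ x.2 ≠ 1} + Nat.card (Sylow p G) ≤
      Nat.card (Sylow p G) * Nat.card (P : Subgroup G) := by
  classical
  haveI : Fintype (Sylow p G) := Fintype.ofFinite _
  have h1 : Nat.card (Σ S : Sylow p G, (S : Subgroup G)) =
      Nat.card (Sylow p G) * Nat.card (P : Subgroup G) := by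
    have hS : ∀ S : Sylow p G, Nat.card (S : Subgroup G) = Nat.card (P : Subgroup G) := fun S => by
      rw [S.card_eq_multiplicity, P.card_eq_multiplicity]
    rw [Nat.card_sigma, Finset.sum_congr rfl fun S _ => hS S, Finset.sum_const, Finset.card_univ,
      ← Nat.card_eq_fintype_card, smul_eq_mul]
  rw [← h1, ← Nat.card_sum]
  refine Nat.card_le_card_of_injective
    (Sum.elim (fun x => ⟨x.1.1, ⟨x.1.2, x.2.1⟩⟩) (fun S => ⟨S, 1⟩)) ?_
  rintro (⟨⟨S, v⟩, hv⟩ | S) (⟨⟨S', v'⟩, hv'⟩ | S') he <;>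
    simp only [Sum.elim_inl, Sum.elim_inr, Sigma.mk.injEq] at he <;> obtain ⟨rfl, he⟩ := he
  · simp only [heq_eq_eq, Subtype.mk.injEq] at he
    subst he; rfl
  · exact absurd (congrArg Subtype.val (eq_of_heq he)) hv.2
  · exact absurd (congrArg Subtype.val (eq_of_heq he)).symm hv'.2
  · rfl

variable (hG : Minimal p G)
include hG

/-- A Sylow `p`-subgroup is smaller than half its normalizer. -/
theorem two_mul_card_sylow_le (P : Sylow p G) :
    2 * (Nat.card (Sylow p G) * Nat.card (P : Subgroup G)) ≤ Nat.card G := by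
  obtain ⟨-, -, a, haN, har, ha1⟩ := normalizer_data hG P
  set N := normalizer ((P : Subgroup G) : Set G)
  have hle : (P : Subgroup G) ≤ N := le_normalizer
  have hne : (P : Subgroup G) ≠ N := fun h => ha1 ((pelt_of_mem P.2 (h ▸ haN)).eq_one har)
  have h2 : 2 * Nat.card (P : Subgroup G) ≤ Nat.card N := by
    obtain ⟨c, hc⟩ := Subgroup.card_dvd_of_le hle
    have hc2 : 2 ≤ c := by
      by_contra hlt
      have hpos : 0 < Nat.card N := Nat.card_pos
      obtain rfl : c = 1 := by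
        rcases Nat.eq_zero_or_pos c with rfl | h0
        · rw [hc, Nat.mul_zero] at hpos; omega
        · omega
      exact hne (Subgroup.eq_of_le_of_card_ge hle (by rw [hc, Nat.mul_one]))
    rw [hc, mul_comm 2]
    exact Nat.mul_le_mul_left _ hc2
  rw [Sylow.card_eq_index_normalizer P, mul_left_comm, ← N.index_mul_card]
  exact Nat.mul_le_mul_left _ h2

/-- Two conjugates of a Sylow `p`-subgroup through `v` separate the regular part of `C(v)`. -/
def Sep (p : ℕ) (v : G) (S : Sylow p G) : Prop :=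
  v ∈ (S : Subgroup G) ∧ ∀ k k' : G, k * v = v * k → k' * v = v * k' → Reg p k → Reg p k' →
    (S : Subgroup G).map (MulAut.conj k).toMonoidHom =
      (S : Subgroup G).map (MulAut.conj k').toMonoidHom → k = k'

theorem Good.exists_sep {M : Subgroup G} (hM : Good p M) (P : Sylow p G)
    (hPM : (P : Subgroup G) ≤ M) {v k : G} (hv : v ∈ M) (hvp : PElt p v) (hv1 : v ≠ 1)
    (hk : k ∈ M) (hkr : Reg p k) (hk1 : k ≠ 1) (hvk : v * k = k * v) :
    ∃ S : Sylow p G, Sep p v S := by
  have hC := hM.centralizer_pelt_le hG hv hvp hv1 (hM.reg_mem_Fs hG P hPM hk hkr) hk1 hvk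
  obtain ⟨T, hT⟩ := (isPGroup_zpowers (p := p) (g := (⟨v, hv⟩ : M))
    (by obtain ⟨e, he⟩ := hvp; exact ⟨e, Subtype.ext (by simpa using he)⟩)).exists_le_sylow
  obtain ⟨m, hm⟩ := MulAction.exists_smul_eq M (P.subtype hPM) T
  set S : Sylow p G :=
    P.mapSurjective (f := (MulAut.conj (m : G)).toMonoidHom) (MulAut.conj (m : G)).surjective with hS
  have hScoe : (S : Subgroup G) = (P : Subgroup G).map (MulAut.conj (m : G)).toMonoidHom :=
    Sylow.coe_mapSurjective _ _
  have hSM : (S : Subgroup G) ≤ M := by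
    rw [hScoe]
    rintro _ ⟨x, hx, rfl⟩
    exact mul_mem (mul_mem m.2 (hPM hx)) (inv_mem m.2)
  refine ⟨S, ?_, fun k₁ k₂ h1 h2 hr1 hr2 he => ?_⟩
  · have hvT := hT (mem_zpowers _)
    rw [← hm, Sylow.coe_subgroup_smul, Subgroup.mem_pointwise_smul_iff_inv_smul_mem] at hvT
    have h3 : ((MulAut.conj m)⁻¹ • (⟨v, hv⟩ : M) : M).1 ∈ (P : Subgroup G) := mem_subgroupOf.1 hvT
    rw [hScoe]
    refine ⟨(m : G)⁻¹ * v * m, ?_, by simp [mul_assoc]⟩
    have h4 : (m : G)⁻¹ * v * m ∈ (P : Subgroup G) := by simpa [mul_assoc] using h3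
    exact h4
  · have hk₁ : k₁ ∈ Fs p M :=
      hM.reg_mem_Fs hG P hPM (hC (mem_centralizer_singleton_iff.2 h1)) hr1
    have hk₂ : k₂ ∈ Fs p M :=
      hM.reg_mem_Fs hG P hPM (hC (mem_centralizer_singleton_iff.2 h2)) hr2
    have hmem : k₂⁻¹ * k₁ ∈ normalizer ((S : Subgroup G) : Set G) := by
      rw [mem_normalizer_iff_map_conj_eq]
      refine Subgroup.eq_of_le_of_card_ge ?_ (Subgroup.card_map_of_injective
        (MulAut.conj _).injective).ge
      rintro _ ⟨x, hx, rfl⟩
      obtain ⟨y, hy, hye⟩ := he.le (mem_map_of_mem _ hx)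
      simp only [MulEquiv.coe_toMonoidHom, MulAut.conj_apply] at hye
      show k₂⁻¹ * k₁ * x * (k₂⁻¹ * k₁)⁻¹ ∈ (S : Subgroup G)
      rw [show k₂⁻¹ * k₁ * x * (k₂⁻¹ * k₁)⁻¹ = k₂⁻¹ * (k₁ * x * k₁⁻¹) * k₂ by group, ← hye,
        show k₂⁻¹ * (k₂ * y * k₂⁻¹) * k₂ = y by group]
      exact hy
    have := hM.eq_one_of_normalizes hG S hSM (Fs_le (mul_mem (inv_mem hk₂) hk₁)) hmem
      (Fs_reg (mul_mem (inv_mem hk₂) hk₁))
    exact (inv_mul_eq_one.1 this).symm

/-- There is no minimal counterexample. -/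
theorem Minimal.false : False := by
  classical
  haveI : Fintype G := Fintype.ofFinite G
  obtain ⟨P₀⟩ := (inferInstance : Nonempty (Sylow p G))
  -- the parts of an element
  choose vp kp hvpow hkpow hvk hvpe hkreg using fun g : G => exists_split p g
  have hcomm : ∀ g, vp g * kp g = kp g * vp g := fun g => by
    obtain ⟨i, hi⟩ := mem_zpowers_iff.1 (hvpow g)
    obtain ⟨l, hl⟩ := mem_zpowers_iff.1 (hkpow g)
    rw [← hi, ← hl]
    exact (Commute.refl g).zpow_zpow i l
  have hpk : ∀ g, PElt p g → kp g = 1 := fun g hg =>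
    (pelt_of_mem (isPGroup_zpowers hg) (hkpow g)).eq_one (hkreg g)
  set B : G → Prop := fun g => ¬ PElt p g ∧ vp g ≠ 1 ∧
    ∃ M : Subgroup G, Good p M ∧ g ∈ M ∧ ∃ P : Sylow p G, (P : Subgroup G) ≤ M with hB
  set D : Finset G := Finset.univ.filter fun g => (PElt p g ∧ g ≠ 1) ∨ B g with hD
  -- the pairs
  set Pairs : Type u := {x : Sylow p G × G // x.2 ∈ (x.1 : Subgroup G) ∧ x.2 ≠ 1}
  have hSsel : ∀ v : G, ∃ S : Sylow p G, (PElt p v → v ∈ (S : Subgroup G)) ∧
      ((∃ S', Sep p v S') → Sep p v S) := by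
    intro v
    by_cases h : ∃ S', Sep p v S'
    · obtain ⟨S', hS'⟩ := h
      exact ⟨S', fun _ => hS'.1, fun _ => hS'⟩
    · by_cases hv : PElt p v
      · obtain ⟨S, hS⟩ := (isPGroup_zpowers hv).exists_le_sylow
        exact ⟨S, fun _ => hS (mem_zpowers v), fun hh => absurd hh h⟩
      · exact ⟨P₀, fun h' => absurd h' hv, fun hh => absurd hh h⟩
  choose sel hsel hselSep using hSsel
  have hvne : ∀ g, (PElt p g ∧ g ≠ 1) ∨ B g → vp g ≠ 1 := by
    rintro g (⟨hg, hg1⟩ | hg)
    · intro h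
      exact hg1 (by rw [← hvk g, h, hpk g hg, one_mul])
    · exact hg.2.1
  have hDcard : D.card ≤ Nat.card Pairs := by
    rw [← Nat.card_eq_finsetCard]
    refine Nat.card_le_card_of_injective (fun g =>
      (⟨((sel (vp g.1)).mapSurjective (f := (MulAut.conj (kp g.1)).toMonoidHom)
          (MulAut.conj (kp g.1)).surjective, vp g.1), ?_⟩ : Pairs)) ?_
    · refine ⟨?_, hvne g.1 (Finset.mem_filter.1 g.2).2⟩
      refine (Sylow.coe_mapSurjective (f := (MulAut.conj (kp g.1)).toMonoidHom)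
        (MulAut.conj (kp g.1)).surjective (sel (vp g.1))).ge
        ⟨vp g.1, hsel _ (hvpe g.1), ?_⟩
      show kp g.1 * vp g.1 * (kp g.1)⁻¹ = vp g.1
      rw [← hcomm, mul_inv_cancel_right]
    · rintro ⟨g, hg⟩ ⟨g', hg'⟩ he
      simp only [Pairs, Subtype.mk.injEq, Prod.mk.injEq] at he
      obtain ⟨heS, hev⟩ := he
      have heS' : ((sel (vp g) : Sylow p G) : Subgroup G).map (MulAut.conj (kp g)).toMonoidHom =
          ((sel (vp g') : Sylow p G) : Subgroup G).map (MulAut.conj (kp g')).toMonoidHom :=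
        ((Sylow.coe_mapSurjective _ _).symm.trans (congrArg Sylow.toSubgroup heS)).trans
          (Sylow.coe_mapSurjective _ _)
      refine Subtype.ext ?_
      show g = g'
      suffices hk : kp g = kp g' by rw [← hvk g, ← hvk g', hev, hk]
      have hsep : ∀ y, B y → ∃ S, Sep p (vp y) S := by
        rintro y ⟨hyp, hy1, M, hM, hyM, P, hPM⟩
        exact hM.exists_sep hG P hPM (zpowers_le.2 hyM (hvpow y)) (hvpe y) hy1
          (zpowers_le.2 hyM (hkpow y)) (hkreg y)
          (fun h => hyp (by rw [← hvk y, h, mul_one]; exact hvpe y)) (hcomm y)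
      rcases (Finset.mem_filter.1 hg).2 with ⟨hgp, -⟩ | hgB
      · rcases (Finset.mem_filter.1 hg').2 with ⟨hgp', -⟩ | hgB'
        · rw [hpk g hgp, hpk g' hgp']
        · rw [← hev] at heS'
          exact (hselSep _ (hev ▸ hsep g' hgB')).2 _ _ (hcomm g).symm
            (by rw [hev]; exact (hcomm g').symm) (hkreg g) (hkreg g') heS'
      · rw [← hev] at heS'
        exact (hselSep _ (hsep g hgB)).2 _ _ (hcomm g).symm
          (by rw [hev]; exact (hcomm g').symm) (hkreg g) (hkreg g') heS'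
  -- the sets attached to the primes
  set I := (Nat.card G).primeFactors.erase p with hI
  have hchoice : ∀ r : ℕ, ∃ M : Subgroup G, r ∈ I → Good p M ∧
      ∃ R : Sylow r G, Via M R := by
    intro r
    by_cases hr : r ∈ I
    · obtain ⟨hrp, hr'⟩ := Finset.mem_erase.1 hr
      have hrpr := Nat.prime_of_mem_primeFactors hr'
      haveI := Fact.mk hrpr
      obtain ⟨R⟩ := (inferInstance : Nonempty (Sylow r G))
      have hR : (R : Subgroup G) ≠ ⊥ := fun h0 => by
        have := R.dvd_card_of_dvd_card (Nat.dvd_of_mem_primeFactors hr')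
        rw [h0, Subgroup.card_bot] at this
        exact hrpr.not_dvd_one this
      obtain ⟨M, hV⟩ := exists_via hG R hrp hR
      exact ⟨M, fun _ => ⟨⟨r, hrpr, hrp, R, hR, hV⟩, R, hV⟩⟩
    · exact ⟨⊥, fun h => absurd h hr⟩
  choose Mr hMr using hchoice
  set A : ℕ → G → Prop := fun r a => a ∈ Mr r ∧ ¬ PElt p a ∧
    ((∃ P : Sylow p G, (P : Subgroup G) ≤ Mr r) → Reg p a) with hAdef
  set U : ℕ → Finset G := fun r => Finset.univ.filter fun g => ∃ h, A r (h * g * h⁻¹) with hU
  have hUb : ∀ r ∈ I, (U r).card * p ^ 2 ≤ Nat.card G * (p + 1) := by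
    intro r hr
    obtain ⟨hgood, -⟩ := hMr r hr
    have h1 : (U r).card * Nat.card (Mr r) ≤ Nat.card G * Nat.card {a : G // A r a} := by
      have h0 := card_conj_le (Mr r) (A r) fun m hm a ha =>
        ⟨mul_mem (mul_mem hm ha.1) (inv_mem hm),
          fun hp' => ha.2.1 (by simpa [mul_assoc] using hp'.conj m⁻¹),
          fun hf => (ha.2.2 hf).conj m⟩
      rwa [show Nat.card {g : G // ∃ h, A r (h * g * h⁻¹)} = (U r).card by
        rw [Nat.card_eq_fintype_card, Fintype.card_subtype]] at h0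
    have h2 : Nat.card {a : G // A r a} * p ^ 2 ≤ Nat.card (Mr r) * (p + 1) := by
      by_cases hf : ∃ P : Sylow p G, (P : Subgroup G) ≤ Mr r
      · obtain ⟨P, hP⟩ := hf
        have h3 : Nat.card {a : G // A r a} ≤ Nat.card (Fs p (Mr r)) :=
          Nat.card_le_card_of_injective
            (fun a => ⟨a.1, hgood.reg_mem_Fs hG P hP a.2.1 (a.2.2.2 ⟨P, hP⟩)⟩)
            fun a b h => Subtype.ext (by simpa using h)
        have h4 : Nat.card (Fs p (Mr r)) * Nat.card (P : Subgroup G) ≤ Nat.card (Mr r) := by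
          rw [← Nat.card_prod]
          refine Nat.card_le_card_of_injective
            (fun x => (⟨x.1 * x.2, mul_mem (Fs_le x.1.2) (hP x.2.2)⟩ : Mr r)) ?_
          rintro ⟨f, x⟩ ⟨f', x'⟩ he
          have he' : (f : G) * x = f' * x' := congrArg Subtype.val he
          have h5 : (f' : G)⁻¹ * f = x' * (x : G)⁻¹ := by
            calc (f' : G)⁻¹ * f = (f' : G)⁻¹ * (f * x) * (x : G)⁻¹ := by group
              _ = _ := by rw [he']; group
          have h6 : (f' : G)⁻¹ * f = 1 :=
            (pelt_of_mem P.2 (h5 ▸ mul_mem x'.2 (inv_mem x.2))).eq_one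
              (Fs_reg (mul_mem (inv_mem f'.2) f.2))
          have hf : f' = f := Subtype.ext (inv_mul_eq_one.1 h6)
          subst hf
          exact Prod.ext rfl (Subtype.ext (mul_left_cancel he'))
        have h7 : p ≤ Nat.card (P : Subgroup G) := by
          refine Nat.le_of_dvd Nat.card_pos (P.dvd_card_of_dvd_card ?_)
          by_contra hnd
          have hnd' : ¬ p ∣ Nat.card (⊤ : Subgroup G) := by rwa [Subgroup.card_top]
          exact hG.nonsolvable (Group.isSolvable_of_comm fun x y =>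
            hG.hyp.comm_mem hnd' (mem_top x) (mem_top y))
        calc Nat.card {a : G // A r a} * p ^ 2 ≤ Nat.card (Fs p (Mr r)) * p ^ 2 :=
              Nat.mul_le_mul_right _ h3
          _ = Nat.card (Fs p (Mr r)) * p * p := by ring
          _ ≤ Nat.card (Fs p (Mr r)) * Nat.card (P : Subgroup G) * p :=
              Nat.mul_le_mul_right _ (Nat.mul_le_mul_left _ h7)
          _ ≤ Nat.card (Mr r) * p := Nat.mul_le_mul_right _ h4
          _ ≤ _ := Nat.mul_le_mul_left _ (Nat.le_succ p)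
      · refine le_trans (Nat.mul_le_mul_right _ ?_)
          (hgood.card_nonp_le hG fun P hP => hf ⟨P, hP⟩)
        exact Nat.card_le_card_of_injective (fun a => ⟨a.1, a.2.1, a.2.2.1⟩)
          fun a b h => Subtype.ext (congrArg (fun t => t.1) h :)
    refine Nat.le_of_mul_le_mul_right ?_ (Nat.card_pos (α := Mr r))
    calc (U r).card * p ^ 2 * Nat.card (Mr r) = (U r).card * Nat.card (Mr r) * p ^ 2 := by ring
      _ ≤ Nat.card G * Nat.card {a : G // A r a} * p ^ 2 := Nat.mul_le_mul_right _ h1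
      _ = Nat.card G * (Nat.card {a : G // A r a} * p ^ 2) := by ring
      _ ≤ Nat.card G * (Nat.card (Mr r) * (p + 1)) := Nat.mul_le_mul_left _ h2
      _ = _ := by ring
  -- every element is accounted for
  have hcover : (Finset.univ : Finset G) ⊆ {1} ∪ D ∪ I.biUnion U := by
    intro g _
    by_cases hg1 : g = 1
    · subst hg1; simp
    by_cases hgp : PElt p g
    · exact Finset.mem_union_left _
        (Finset.mem_union_right _ (Finset.mem_filter.2 ⟨Finset.mem_univ g, Or.inl ⟨hgp, hg1⟩⟩))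
    have hk1 : kp g ≠ 1 := fun h => hgp (by rw [← hvk g, h, mul_one]; exact hvpe g)
    obtain ⟨a, hak, hao, hap⟩ := exists_prime_pow_of_reg (hkreg g) hk1
    have hag : a ∈ zpowers g := zpowers_le.2 (hkpow g) hak
    set r := orderOf a
    have hrI : r ∈ I := Finset.mem_erase.2 ⟨hap, Nat.mem_primeFactors.2
      ⟨hao, orderOf_dvd_natCard a, Nat.card_pos.ne'⟩⟩
    haveI := Fact.mk hao
    obtain ⟨hgood, R, hV⟩ := hMr r hrI
    obtain ⟨S, haS, -⟩ := exists_sylow_mem (a := a) rfl hao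
    obtain ⟨h, hh⟩ := MulAction.exists_smul_eq G S R
    have haR : h * a * h⁻¹ ∈ (R : Subgroup G) := by
      rw [← hh, Sylow.coe_subgroup_smul]
      exact Subgroup.smul_mem_pointwise_smul a (MulAut.conj h) _ haS
    have hgM : h * g * h⁻¹ ∈ Mr r := by
      refine hV.2.2 _ haR (fun h1 => ne_one_of_prime_order hao (conj_eq_one_iff.1 h1))
        (mem_centralizer_singleton_iff.2 ?_)
      obtain ⟨i, hi⟩ := mem_zpowers_iff.1 hag
      rw [← hi, ← conj_zpow]
      exact ((Commute.refl _).zpow_right i)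
    have hgp' : ¬ PElt p (h * g * h⁻¹) := fun hh' => hgp (by simpa [mul_assoc] using hh'.conj h⁻¹)
    by_cases hU' : (∃ P : Sylow p G, (P : Subgroup G) ≤ Mr r) → Reg p (h * g * h⁻¹)
    · exact Finset.mem_union_right _ (Finset.mem_biUnion.2
        ⟨r, hrI, Finset.mem_filter.2 ⟨Finset.mem_univ g, h, hgM, hgp', hU'⟩⟩)
    · obtain ⟨hfull, hnr⟩ := Classical.not_imp.1 hU'
      obtain ⟨P, hP⟩ := hfull
      refine Finset.mem_union_left _ (Finset.mem_union_right _ (Finset.mem_filter.2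
        ⟨Finset.mem_univ g, Or.inr ⟨hgp, fun hv1 => hnr ?_, _, hgood.conj h⁻¹, ?_,
          P.mapSurjective (f := (MulAut.conj h⁻¹).toMonoidHom) (MulAut.conj h⁻¹).surjective, ?_⟩⟩))
      · refine Reg.conj ?_ h
        rw [← hvk g, hv1, one_mul]
        exact hkreg g
      · exact ⟨h * g * h⁻¹, hgM, by simp [mul_assoc]⟩
      · exact (Sylow.coe_mapSurjective _ _).le.trans (map_mono hP)
  -- the contradiction
  have hn := card_nontrivial_pairs P₀
  have hn2 := two_mul_card_sylow_le hG P₀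
  have hpos : 0 < Nat.card (Sylow p G) := Nat.card_pos
  have hGcard : Nat.card G ≤ 1 + D.card + ∑ r ∈ I, (U r).card := by
    rw [Nat.card_eq_fintype_card, ← Finset.card_univ]
    refine (Finset.card_le_card hcover).trans ((Finset.card_union_le _ _).trans ?_)
    refine Nat.add_le_add ((Finset.card_union_le _ _).trans ?_) Finset.card_biUnion_le
    simp
  have hsum : (∑ r ∈ I, (U r).card) * p ^ 2 ≤ I.card * (Nat.card G * (p + 1)) := by
    rw [Finset.sum_mul, ← smul_eq_mul I.card]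
    exact Finset.sum_le_card_nsmul _ _ _ hUb
  have hIsub : I ⊆ (p - 1).primeFactors := by
    intro r hr
    obtain ⟨hrp, hr'⟩ := Finset.mem_erase.1 hr
    have h5 := hG.five
    exact Nat.mem_primeFactors.2 ⟨Nat.prime_of_mem_primeFactors hr',
      hG.hyp.prime_dvd (Nat.prime_of_mem_primeFactors hr') hrp (Nat.dvd_of_mem_primeFactors hr'),
      by omega⟩
  have hI2 : 2 * I.card ≤ p - 1 := two_mul_card_primes_le (by have := hG.five; omega) hIsub
  have hU2 : Nat.card G ≤ 2 * ∑ r ∈ I, (U r).card := by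
    change D.card ≤ Nat.card {x : Sylow p G × G // x.2 ∈ (x.1 : Subgroup G) ∧ x.2 ≠ 1} at hDcard
    omega
  have hfin : Nat.card G * p ^ 2 ≤ (p - 1) * (p + 1) * Nat.card G := by
    calc Nat.card G * p ^ 2 ≤ 2 * (∑ r ∈ I, (U r).card) * p ^ 2 := Nat.mul_le_mul_right _ hU2
      _ = 2 * ((∑ r ∈ I, (U r).card) * p ^ 2) := by ring
      _ ≤ 2 * (I.card * (Nat.card G * (p + 1))) := Nat.mul_le_mul_left _ hsum
      _ = 2 * I.card * ((p + 1) * Nat.card G) := by ring
      _ ≤ (p - 1) * ((p + 1) * Nat.card G) := Nat.mul_le_mul_right _ hI2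
      _ = _ := by ring
  have h1 : p ^ 2 ≤ (p - 1) * (p + 1) :=
    Nat.le_of_mul_le_mul_right (by rwa [mul_comm (Nat.card G)] at hfin) Nat.card_pos
  obtain ⟨q, rfl⟩ : ∃ q, p = q + 1 := ⟨p - 1, by have := hG.five; omega⟩
  simp only [Nat.add_sub_cancel] at h1
  nlinarith

end CfsgLib.Solv.AbHall
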