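import Cfsg.Agent.Lib.Solv.AbelianHallMinimal.Core
import Cfsg.Agent.Lib.Coprime.UniqueOrderP

/-!
# The minimal counterexample: local subgroups not containing a Sylow `p`-subgroup have few elements
outside the `p`-elements
-/

set_option autoImplicit false
set_option linter.unusedSectionVars false
set_option linter.style.haveILetI false
set_option maxHeartbeats 800000

open Subgroup
open scoped commutatorElement

namespace CfsgLib.Solv.AbHall

universe u

variable {G : Type u} [Group G] [Finite G] {p : ℕ} [hp : Fact p.Prime]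

/-- The elements of a subgroup that commute with `x` modulo `O_p(M)`. -/
def centMod (p : ℕ) {M : Subgroup G} (x : M) : Subgroup G :=
  ((centralizer ({(x : ↥M ⧸ Cfsg.pCore p M)} : Set (↥M ⧸ Cfsg.pCore p M))).comap
    (QuotientGroup.mk' (Cfsg.pCore p M))).map M.subtype

theorem mem_centMod {M : Subgroup G} {x : M} {b : G} :
    b ∈ centMod p x ↔ b ∈ M ∧ (x : G) * b * (x : G)⁻¹ * b⁻¹ ∈ Qs p M := by
  rw [centMod, mem_map_subtype_iff, Qs, mem_map_subtype_iff]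
  constructor
  · rintro ⟨hb, h⟩
    refine ⟨hb, mul_mem (mul_mem (mul_mem x.2 hb) (inv_mem x.2)) (inv_mem hb), ?_⟩
    rw [mem_comap, mem_centralizer_singleton_iff, eq_comm, QuotientGroup.mk'_apply,
      ← commutatorElement_eq_one_iff_mul_comm, commutatorElement_def, ← QuotientGroup.mk_inv,
      ← QuotientGroup.mk_inv, ← QuotientGroup.mk_mul, ← QuotientGroup.mk_mul, ← QuotientGroup.mk_mul,
      QuotientGroup.eq_one_iff] at h
    exact h
  · rintro ⟨hb, hc, h⟩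
    refine ⟨hb, ?_⟩
    rw [mem_comap, mem_centralizer_singleton_iff, eq_comm, QuotientGroup.mk'_apply,
      ← commutatorElement_eq_one_iff_mul_comm, commutatorElement_def, ← QuotientGroup.mk_inv,
      ← QuotientGroup.mk_inv, ← QuotientGroup.mk_mul, ← QuotientGroup.mk_mul, ← QuotientGroup.mk_mul,
      QuotientGroup.eq_one_iff]
    exact h

/-- The arithmetic of the bound. -/
theorem gamma_arith {A q k m n a : ℕ} (hq : 0 < q) (hA : A * q ≤ (a + 1) * k)
    (hm : m * q = n * k) (ha : p * a + 1 ≤ n) (hn : ∃ i, 1 ≤ i ∧ n = p ^ i) :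
    A * p ^ 2 ≤ m * (p + 1) := by
  obtain ⟨i, hi, rfl⟩ := hn
  have hp2 := hp.out.two_le
  have hkey : (a + 1) * p ^ 2 ≤ p ^ i * (p + 1) := by
    rcases eq_or_lt_of_le hi with rfl | hi2
    · rcases Nat.eq_zero_or_pos a with rfl | ha0
      · rw [pow_one]; nlinarith
      · have : p * 1 ≤ p * a := Nat.mul_le_mul_left p ha0
        rw [pow_one] at ha
        omega
    · have h2 : p ^ 2 ≤ p ^ i := Nat.pow_le_pow_right hp.out.pos hi2
      nlinarith
  refine Nat.le_of_mul_le_mul_right ?_ hq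
  calc A * p ^ 2 * q = A * q * p ^ 2 := by ring
    _ ≤ (a + 1) * k * p ^ 2 := Nat.mul_le_mul_right _ hA
    _ = (a + 1) * p ^ 2 * k := by ring
    _ ≤ p ^ i * (p + 1) * k := Nat.mul_le_mul_right _ hkey
    _ = p ^ i * k * (p + 1) := by ring
    _ = m * q * (p + 1) := by rw [hm]
    _ = m * (p + 1) * q := by ring

variable (hG : Minimal p G)
include hG

/-- A local subgroup without a full Sylow `p`-subgroup has few non-`p`-elements. -/
theorem Good.card_nonp_le {M : Subgroup G} (hM : Good p M)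
    (hnf : ∀ P : Sylow p G, ¬ (P : Subgroup G) ≤ M) :
    Nat.card {g : G // g ∈ M ∧ ¬ PElt p g} * p ^ 2 ≤ Nat.card M * (p + 1) := by
  classical
  have hsol := hM.solvable hG
  haveI := hsol
  have hHM := hG.hyp.subgroup M
  obtain ⟨S⟩ := (inferInstance : Nonempty (Sylow p M))
  set P₂ := (S : Subgroup M).map M.subtype with hP₂
  have hP₂p : IsPGroup p P₂ := S.2.map _
  have hP₂M : P₂ ≤ M := map_subtype_le _
  have hQP₂ : Qs p M ≤ P₂ := map_mono (Coprime.pCore_le_sylow S)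
  obtain ⟨P, hP⟩ := hP₂p.exists_le_sylow
  have hlt : P₂ < (P : Subgroup G) ⊓ normalizer (P₂ : Set G) :=
    CFun.lt_inf_normalizer_sylow P hP fun h => hnf P (h ▸ hP₂M)
  have hinM : ∀ z ∈ (P : Subgroup G), z ∈ M → z ∈ P₂ := by
    intro z hz hzM
    have h1 : (P : Subgroup G).comap M.subtype = (S : Subgroup M) :=
      S.is_maximal' (P.2.comap_of_injective _ M.subtype_injective)
        fun y hy => hP ⟨y, hy, rfl⟩
    exact ⟨⟨z, hzM⟩, h1 ▸ hz, rfl⟩
  obtain ⟨w₀, hw₀, hw₀2⟩ := SetLike.exists_of_lt hlt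
  obtain ⟨hw₀P, hw₀N⟩ := mem_inf.1 hw₀
  obtain ⟨e, he⟩ := pelt_of_mem P.2 hw₀P
  have hex : ∃ j, w₀ ^ p ^ j ∈ P₂ := ⟨e, by rw [he]; exact one_mem _⟩
  obtain ⟨j, hj⟩ : ∃ j, Nat.find hex = j + 1 := by
    refine Nat.exists_eq_succ_of_ne_zero fun h0 => hw₀2 ?_
    have := Nat.find_spec hex
    rwa [h0, pow_zero, pow_one] at this
  set w := w₀ ^ p ^ j with hw
  have hwN : w ∈ normalizer (P₂ : Set G) := pow_mem hw₀N _
  have hwp : w ^ p ∈ P₂ := by
    have := Nat.find_spec hex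
    rwa [hj, pow_succ, pow_mul] at this
  have hwnot : w ∉ P₂ := Nat.find_min hex (by omega)
  have hwM : ∀ d : ℕ, 0 < d → d < p → w ^ d ∉ M := by
    intro d hd0 hdp hdM
    have hd : w ^ d ∈ P₂ := hinM _ (pow_mem (pow_mem hw₀P _) _) hdM
    have hcop : Nat.Coprime d p :=
      ((hp.out.coprime_iff_not_dvd).2 fun h => absurd (Nat.le_of_dvd hd0 h) (by omega)).symm
    obtain ⟨a, b, hab⟩ := Nat.isCoprime_iff_coprime.2 hcop
    refine hwnot ?_
    rw [← zpow_one w, ← hab, zpow_add, mul_comm a, mul_comm b, zpow_mul, zpow_mul,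
      zpow_natCast, zpow_natCast]
    exact mul_mem (zpow_mem hd a) (zpow_mem hwp b)
  -- the set `Γ`
  set Γ : Set G := {x | x ∈ P₂ ∧ ∃ f ∈ Fs p M, f ≠ 1 ∧ x * f = f * x} with hΓ
  have hΓQ : ∀ x ∈ Γ, ∀ q ∈ Qs p M, x * q ∈ Γ := by
    rintro x ⟨hx, f, hf, hf1, hxf⟩ q hq
    refine ⟨mul_mem hx (hQP₂ hq), f, hf, hf1, ?_⟩
    rw [mul_assoc, Qs_comm_Fs hq hf, ← mul_assoc, hxf, mul_assoc]
  have hdisj : ∀ v : G, v ∉ M → ∀ x ∈ Γ, x ≠ 1 → v * x * v⁻¹ ∈ Γ → False := by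
    rintro v hv x ⟨hx, f, hf, hf1, hxf⟩ hx1 ⟨hx', f', hf', hf1', hxf'⟩
    obtain ⟨Y, hYF, hYc, hYx⟩ :=
      hM.exists_fixed_noncyclic hG (hP₂M hx) (pelt_of_mem hP₂p hx) hf hf1 hxf
    obtain ⟨y, hy, hy1⟩ :=
      exists_ne_one_of_ne_bot' (show Y ≠ ⊥ from fun h0 => hYc (h0 ▸ inferInstance))
    refine hv (hM.mem_of_conj hG (Fs_le (hYF hy)) (Fs_reg (hYF hy)) hy1 ?_)
    refine hM.centralizer_pelt_le hG (hP₂M hx') (pelt_of_mem hP₂p hx')
      (fun h1 => hx1 (conj_eq_one_iff.1 h1)) hf' hf1' hxf' (mem_centralizer_singleton_iff.2 ?_)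
    have := mem_centralizer_singleton_iff.1 (hYx hy)
    calc v * y * v⁻¹ * (v * x * v⁻¹) = v * (y * x) * v⁻¹ := by group
      _ = v * (x * y) * v⁻¹ := by rw [this]
      _ = v * x * v⁻¹ * (v * y * v⁻¹) := by group
  obtain ⟨f₀, hf₀, hf₀1⟩ := exists_ne_one_of_ne_bot' (hM.Fs_ne_bot hG)
  have hQΓ : ∀ q ∈ Qs p M, q ∈ Γ := fun q hq => ⟨hQP₂ hq, f₀, hf₀, hf₀1, Qs_comm_Fs hq hf₀⟩
  -- `O_p(M)` is cyclic
  haveI hQcyc : IsCyclic (Qs p M) := by
    set T := (Qs p M).map (MulAut.conj w).toMonoidHom with hT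
    have hTP₂ : T ≤ P₂ := by
      rintro _ ⟨q, hq, rfl⟩
      exact (mem_normalizer_iff.1 hwN q).1 (hQP₂ hq)
    have hTN : T ≤ normalizer (Fs p M : Set G) := hTP₂.trans (hP₂M.trans Fs_normalized)
    have hfpf : Coprime.IsFpfOn T (Fs p M) := by
      intro t ht ht1
      rw [eq_bot_iff]
      intro f hf
      obtain ⟨hfF, hfc⟩ := mem_inf.1 hf
      rw [mem_bot]
      by_contra hf1
      obtain ⟨q, hq, rfl⟩ := ht
      exact hdisj w (by simpa using hwM 1 one_pos hp.out.one_lt) q (hQΓ q hq)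
        (fun h1 => ht1 (by rw [h1, map_one]))
        ⟨hTP₂ ⟨q, hq, rfl⟩, f, hfF, hf1, (mem_centralizer_singleton_iff.1 hfc).symm⟩
    have hTp : IsPGroup p T := hP₂p.to_le hTP₂
    have hu := Coprime.isCyclic_of_uniqueOrderP_fpf hTN hfpf (hM.Fs_ne_bot hG) (⊤ : Subgroup T)
      (hTp.to_subgroup ⊤)
    haveI := Coprime.isCyclic_of_unique_odd (p_ne_two hG) (hTp.to_subgroup ⊤) hu
    haveI : IsCyclic T := isCyclic_of_surjective (⊤ : Subgroup T).subtype
      fun t => ⟨⟨t, mem_top t⟩, rfl⟩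
    exact isCyclic_of_surjective
      ((Qs p M).equivMapOfInjective (MulAut.conj w).toMonoidHom (MulAut.conj w).injective).symm.toMonoidHom
      ((Qs p M).equivMapOfInjective (MulAut.conj w).toMonoidHom (MulAut.conj w).injective).symm.surjective
  haveI : IsCyclic (MulAut (Qs p M)) := by
    obtain ⟨i, hi⟩ := IsPGroup.iff_card.1 (Qs_isPGroup (p := p) (M := M))
    haveI : IsCyclic (ZMod (Nat.card (Qs p M)))ˣ :=
      hi ▸ ZMod.isCyclic_units_of_prime_pow p hp.out (p_ne_two hG) i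
    exact isCyclic_of_surjective (IsCyclic.mulAutMulEquiv (Qs p M)).symm.toMonoidHom
      (IsCyclic.mulAutMulEquiv (Qs p M)).symm.surjective
  -- a `p`-element of `P₂` fixing a regular element modulo `O_p(M)` lies in `Γ`
  have hkey : ∀ x ∈ P₂, ∀ k ∈ M, Reg p k → k ≠ 1 → x * k * x⁻¹ * k⁻¹ ∈ Qs p M → x ∈ Γ := by
    intro x hx k hk hkr hk1 hc
    by_contra hxΓ
    set x' : M := ⟨x, hP₂M hx⟩
    have hkC : k ∈ centMod p x' := mem_centMod.2 ⟨hk, hc⟩
    obtain ⟨a, hak, hao, hap⟩ := exists_prime_pow_of_reg hkr hk1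
    haveI := Fact.mk hao
    have haC : a ∈ centMod p x' := zpowers_le.2 hkC hak
    obtain ⟨S', haS, -, hV⟩ := hM.via_of_mem hG (mem_centMod.1 haC).1 hao rfl hap
    set C₀ := (S' : Subgroup G) ⊓ centMod p x' with hC₀
    have hC₀mem : ∀ b, b ∈ C₀ ↔ b ∈ (S' : Subgroup G) ∧ x * b * x⁻¹ * b⁻¹ ∈ Qs p M := fun b =>
      ⟨fun hb => ⟨(mem_inf.1 hb).1, (mem_centMod.1 (mem_inf.1 hb).2).2⟩,
        fun hb => mem_inf.2 ⟨hb.1, mem_centMod.2 ⟨hV.le hb.1, hb.2⟩⟩⟩
    refine fixedMod_not_cyclic hG hM S' hap hV (hP₂M hx) (pelt_of_mem hP₂p hx) haS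
      (ne_one_of_prime_order hao) (mem_centMod.1 haC).2 C₀ hC₀mem ?_
    have hC₀N : C₀ ≤ normalizer (Qs p M : Set G) :=
      inf_le_left.trans (hV.le.trans Qs_normalized)
    refine isCyclic_of_injective ((Qs p M).normalizerMonoidHom.comp (Subgroup.inclusion hC₀N))
      ((injective_iff_map_eq_one _).2 fun b hb => ?_)
    have hbc : (b : G) ∈ centralizer (Qs p M : Set G) := by
      have h1 : Subgroup.inclusion hC₀N b ∈ (Qs p M).normalizerMonoidHom.ker := hb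
      rw [Subgroup.normalizerMonoidHom_ker] at h1
      exact mem_subgroupOf.1 h1
    by_contra hb1
    obtain ⟨hbS, hbQ⟩ := (hC₀mem _).1 b.2
    have hbF : (b : G) ∈ Fs p M := centralizer_Qs_le_Fs hG hM S' hap hV.le hbS
      fun q hq => mem_centralizer_iff.1 hbc q hq
    have hcomm : x * b * x⁻¹ * (b : G)⁻¹ = 1 := Qs_inf_Fs hbQ
      (mul_mem (Coprime.conj_mem_of_le_normalizer Fs_normalized (hP₂M hx) hbF) (inv_mem hbF))
    exact hxΓ ⟨hx, b, hbF, fun h1 => hb1 (Subtype.ext h1),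
      commutatorElement_eq_one_iff_mul_comm.1 (by rw [commutatorElement_def]; exact hcomm)⟩
  -- every non-`p`-element lies in `Γ K`
  have hA : ∀ g : {g : G // g ∈ M ∧ ¬ PElt p g}, ∃ x ∈ Γ, x⁻¹ * g.1 ∈ Ks p M := by
    rintro ⟨g, hgM, hgp⟩
    obtain ⟨v, k, hv, hk, hvk, hvp, hkr⟩ := exists_split p g
    have hvM : v ∈ M := zpowers_le.2 hgM hv
    have hkM : k ∈ M := zpowers_le.2 hgM hk
    have hk1 : k ≠ 1 := fun h1 => hgp (by rwa [← hvk, h1, mul_one])
    have hcomm : v * k = k * v := by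
      obtain ⟨i, rfl⟩ := mem_zpowers_iff.1 hv
      obtain ⟨l, rfl⟩ := mem_zpowers_iff.1 hk
      exact (Commute.refl g).zpow_zpow i l
    obtain ⟨x, hx, hxv⟩ := exists_sylow_mul hHM S (⟨v, hvM⟩ : M)
    have hxP : (x : G) ∈ P₂ := ⟨x, hx, rfl⟩
    set c := (x : G)⁻¹ * v with hc
    have hcK : c ∈ Ks p M := ⟨_, hxv, rfl⟩
    have hkK : k ∈ Ks p M := reg_mem_Ks hG.hyp hsol hkM hkr
    refine ⟨x, hkey x hxP k hkM hkr hk1 ?_, ?_⟩
    · have h1 := commutator_Ks hG.hyp hsol hcK hkK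
      have h2 : (x : G) * k * (x : G)⁻¹ * k⁻¹ = ((x : G) * (c * k * c⁻¹ * k⁻¹) * (x : G)⁻¹)⁻¹ := by
        have : v * k * v⁻¹ = k := by rw [hcomm, mul_inv_cancel_right]
        calc (x : G) * k * (x : G)⁻¹ * k⁻¹ = (x : G) * k * (x : G)⁻¹ * (v * k * v⁻¹)⁻¹ := by rw [this]
          _ = _ := by simp only [hc]; group
      rw [h2]
      exact inv_mem (Coprime.conj_mem_of_le_normalizer Qs_normalized x.2 h1)
    · rw [show (x : G)⁻¹ * g = c * k by rw [← hvk, hc]; group]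
      exact mul_mem hcK hkK
  choose xg hxg hxgK using hA
  set Γ1 : Type u := {x : G // x ∈ Γ ∧ x ≠ 1}
  haveI : Finite Γ1 := Subtype.finite
  have hΓcard : Nat.card {x : G // x ∈ Γ} ≤ Nat.card Γ1 + 1 := by
    rw [← Finite.card_option]
    refine Nat.card_le_card_of_injective
      (fun x => if h : x.1 = 1 then none else some ⟨x.1, x.2, h⟩) ?_
    intro a b hab
    dsimp only at hab
    split_ifs at hab with ha hb
    · exact Subtype.ext (ha.trans hb.symm)
    · exact Subtype.ext (congrArg Subtype.val (Option.some.inj hab) :)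
  have hA' : Nat.card {g : G // g ∈ M ∧ ¬ PElt p g} * Nat.card (Qs p M) ≤
      (Nat.card Γ1 + 1) * Nat.card (Ks p M) := by
    refine le_trans ?_ (Nat.mul_le_mul_right _ hΓcard)
    rw [← Nat.card_prod, ← Nat.card_prod]
    refine Nat.card_le_card_of_injective
      (fun a => ((⟨xg a.1 * a.2, hΓQ _ (hxg a.1) _ a.2.2⟩ : {x : G // x ∈ Γ}),
        (⟨(a.2 : G)⁻¹ * ((xg a.1)⁻¹ * a.1.1), mul_mem (inv_mem (Qs_le_Ks a.2.2)) (hxgK a.1)⟩ :
          Ks p M))) ?_
    rintro ⟨g, q⟩ ⟨g', q'⟩ he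
    simp only [Prod.mk.injEq, Subtype.mk.injEq] at he
    have hg : g = g' := Subtype.ext <| by
      calc g.1 = xg g * q * ((q : G)⁻¹ * ((xg g)⁻¹ * g.1)) := by group
        _ = xg g' * q' * ((q' : G)⁻¹ * ((xg g')⁻¹ * g'.1)) := by rw [he.1, he.2]
        _ = g'.1 := by group
    subst hg
    exact Prod.ext rfl (Subtype.ext (mul_left_cancel he.1))
  have hmcard : Nat.card M * Nat.card (Qs p M) = Nat.card P₂ * Nat.card (Ks p M) := by
    rw [Qs, Ks, hP₂, Subgroup.card_map_of_injective M.subtype_injective,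
      Subgroup.card_map_of_injective M.subtype_injective,
      Subgroup.card_map_of_injective M.subtype_injective]
    exact card_mul_pCore hHM S
  have htrans : p * Nat.card Γ1 + 1 ≤ Nat.card P₂ := by
    have h1 : Nat.card (Option (Fin p × Γ1)) = p * Nat.card Γ1 + 1 := by
      rw [Finite.card_option, Nat.card_prod, Nat.card_fin]
    rw [← h1]
    refine Nat.card_le_card_of_injective
      (fun o => match o with
        | none => (1 : P₂)
        | some (i, x) => ⟨w ^ (i : ℕ) * x.1 * (w ^ (i : ℕ))⁻¹,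
            (mem_normalizer_iff.1 (pow_mem hwN _) _).1 x.2.1.1⟩) ?_
    rintro (_ | ⟨i, x⟩) (_ | ⟨i', x'⟩) he
    · rfl
    · exact absurd (conj_eq_one_iff.1 (congrArg Subtype.val he).symm) x'.2.2
    · exact absurd (conj_eq_one_iff.1 (congrArg Subtype.val he)) x.2.2
    · have he' : w ^ (i : ℕ) * x.1 * (w ^ (i : ℕ))⁻¹ = w ^ (i' : ℕ) * x'.1 * (w ^ (i' : ℕ))⁻¹ :=
        congrArg Subtype.val he
      have hmain : ∀ (a b : Fin p) (y z : Γ1), (a : ℕ) < b →
          w ^ (a : ℕ) * y.1 * (w ^ (a : ℕ))⁻¹ = w ^ (b : ℕ) * z.1 * (w ^ (b : ℕ))⁻¹ → False := by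
        intro a b y z hab hyz
        obtain ⟨d, hd⟩ : ∃ d, (b : ℕ) = a + d := ⟨b - a, by omega⟩
        refine hdisj (w ^ d) (hwM d (by omega) (by have := b.2; omega)) z.1 z.2.1 z.2.2 ?_
        have h3 : y.1 = w ^ d * z.1 * (w ^ d)⁻¹ := by
          rw [hd, pow_add] at hyz
          calc y.1 = (w ^ (a : ℕ))⁻¹ * (w ^ (a : ℕ) * y.1 * (w ^ (a : ℕ))⁻¹) * w ^ (a : ℕ) := by group
            _ = _ := by rw [hyz]; group
        exact h3 ▸ y.2.1
      rcases lt_trichotomy (i : ℕ) i' with hlt' | heq | hlt'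
      · exact (hmain i i' x x' hlt' he').elim
      · obtain rfl : i = i' := Fin.ext heq
        have hxx : x = x' := Subtype.ext (mul_left_cancel (mul_right_cancel he'))
        rw [hxx]
      · exact (hmain i' i x' x hlt' he'.symm).elim
  refine gamma_arith Nat.card_pos hA' hmcard htrans ?_
  obtain ⟨i, hi⟩ := IsPGroup.iff_card.1 hP₂p
  refine ⟨i, Nat.one_le_iff_ne_zero.2 fun h0 => hM.regKer_ne_top hG ?_, hi⟩
  rw [h0, pow_zero, Subgroup.card_eq_one] at hi
  have hS : (S : Subgroup M) = ⊥ :=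
    (Subgroup.map_eq_bot_iff_of_injective _ M.subtype_injective).1 hi
  exact regKer_eq_top_of_sylow_le hHM S (hS.le.trans bot_le)

end CfsgLib.Solv.AbHall
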