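import Cfsg.Agent.Lib.Solv.AbelianHallMinimal.Local

/-!
# The minimal counterexample: the attached maximal subgroups meet trivially outside `p`
-/

set_option autoImplicit false
set_option linter.unusedSectionVars false
set_option linter.style.haveILetI false
set_option maxHeartbeats 800000

open Subgroup

namespace CfsgLib.Solv.AbHall

universe u

variable {G : Type u} [Group G] [Finite G] {p : ℕ} [hp : Fact p.Prime]

/-- A power of prime order of a nontrivial regular element. -/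
theorem exists_prime_pow_of_reg {y : G} (hy : Reg p y) (hy1 : y ≠ 1) :
    ∃ a : G, a ∈ zpowers y ∧ (orderOf a).Prime ∧ orderOf a ≠ p := by
  obtain ⟨s, hs, hd⟩ := Nat.exists_prime_and_dvd (fun h => hy1 (orderOf_eq_one_iff.1 h))
  obtain ⟨c, hc⟩ := hd
  have hc0 : c ≠ 0 := fun h0 => (orderOf_pos y).ne' (by rw [hc, h0, Nat.mul_zero])
  have ho : orderOf (y ^ c) = s := by
    rw [orderOf_pow' y hc0, hc, Nat.gcd_mul_left_left, Nat.mul_div_cancel _ (Nat.pos_of_ne_zero hc0)]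
  exact ⟨y ^ c, pow_mem (mem_zpowers y) c, ho.symm ▸ hs,
    fun h => hy (by rw [hc, ← h, ho]; exact dvd_mul_right s c)⟩

theorem ne_one_of_prime_order {a : G} (ha : (orderOf a).Prime) : a ≠ 1 := fun h => by
  rw [h, orderOf_one] at ha
  exact Nat.not_prime_one ha

theorem centralizer_le_of_mem_zpowers {a y : G} (ha : a ∈ zpowers y) :
    centralizer ({y} : Set G) ≤ centralizer ({a} : Set G) := fun g hg => by
  obtain ⟨i, rfl⟩ := mem_zpowers_iff.1 ha
  exact mem_centralizer_singleton_iff.2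
    (Commute.zpow_right (mem_centralizer_singleton_iff.1 hg) i)

theorem exists_sylow_mem {a : G} {s : ℕ} (ha : orderOf a = s) (hs : s.Prime) :
    ∃ S : Sylow s G, a ∈ (S : Subgroup G) ∧ (S : Subgroup G) ≠ ⊥ := by
  haveI := Fact.mk hs
  obtain ⟨S, hS⟩ := (isPGroup_zpowers (p := s) (g := a)
    ⟨1, by rw [pow_one, ← ha, pow_orderOf_eq_one]⟩).exists_le_sylow
  refine ⟨S, hS (mem_zpowers a), fun h0 => ?_⟩
  exact ne_one_of_prime_order (ha.symm ▸ hs) (mem_bot.1 (h0 ▸ hS (mem_zpowers a)))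

variable (hG : Minimal p G)
include hG

/-- Frattini: `X = O_p(X) N_X(R)`. -/
theorem exists_Qs_mul_normalizer {X : Subgroup G} (hX : Group.IsSolvable X) {r : ℕ}
    [hr : Fact r.Prime] (R : Sylow r G) (hrp : r ≠ p) (hRX : (R : Subgroup G) ≤ X) {m : G}
    (hm : m ∈ X) :
    ∃ q ∈ Qs p X, q⁻¹ * m ∈ X ⊓ normalizer ((R : Subgroup G) : Set G) := by
  set Q := Qs p X with hQdef
  set L := Q ⊔ (R : Subgroup G) with hLdef
  have hLX : L ≤ X := sup_le Qs_le hRX
  have hK : ∀ z ∈ Ks p X, z ∈ normalizer (L : Set G) := by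
    have hone : ∀ z ∈ Ks p X, ∀ l ∈ L, z * l * z⁻¹ ∈ L := by
      intro z hz l hl
      have : L ≤ L.comap (MulAut.conj z).toMonoidHom := by
        refine sup_le (fun q hq => mem_comap.2 (mem_sup_left ?_)) (fun a ha => mem_comap.2 ?_)
        · exact Coprime.conj_mem_of_le_normalizer Qs_normalized (Ks_le hz) hq
        · show z * a * z⁻¹ ∈ L
          rw [show z * a * z⁻¹ = z * a * z⁻¹ * a⁻¹ * a by group]
          exact mul_mem (mem_sup_left (commutator_Ks hG.hyp hX hz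
            (reg_mem_Ks hG.hyp hX (hRX ha) (sylow_reg R hrp ha)))) (mem_sup_right ha)
      exact mem_comap.1 (this hl)
    exact fun z hz => mem_normalizer_iff.2 fun l => ⟨hone z hz l, fun hl => by
      simpa [mul_assoc] using hone z⁻¹ (inv_mem hz) _ hl⟩
  obtain ⟨i, hi⟩ := IsPGroup.iff_card.1 (Qs_isPGroup (p := p) (M := X))
  obtain ⟨a₀, ha₀⟩ := IsPGroup.iff_card.1 R.2
  have hconjL : ∀ a ∈ (R : Subgroup G), m * a * m⁻¹ ∈ L := by
    intro a ha
    set z := m * a * m⁻¹ with hz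
    have hzr : Reg p z := (sylow_reg R hrp ha).conj m
    have hzK : z ∈ Ks p X := reg_mem_Ks hG.hyp hX (mul_mem (mul_mem hm (hRX ha)) (inv_mem hm)) hzr
    set T := zpowers z ⊔ L
    have hT : Nat.card T ∣ Nat.card (zpowers z) * (Nat.card Q * Nat.card (R : Subgroup G)) := by
      refine (Coprime.card_sup_dvd_of_le_normalizer (zpowers_le.2 (hK z hzK))).trans
        (Nat.mul_dvd_mul_left _ ?_)
      rw [hLdef, sup_comm, mul_comm]
      exact Coprime.card_sup_dvd_of_le_normalizer (hRX.trans Qs_normalized)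
    obtain ⟨j, hj⟩ : ∃ j, Nat.card (zpowers z) = r ^ j := by
      refine IsPGroup.iff_card.1 (isPGroup_zpowers (p := r) ?_)
      exact (pelt_of_mem R.2 ha).conj m
    rw [hj, hi, ha₀, show r ^ j * (p ^ i * r ^ a₀) = p ^ i * r ^ (j + a₀) by ring] at hT
    obtain ⟨d₁, d₂, hd₁, hd₂, hd⟩ := exists_dvd_and_dvd_of_dvd_mul hT
    obtain ⟨l, -, rfl⟩ := (Nat.dvd_prime_pow hr.out).1 hd₂
    have hl : l ≤ a₀ := by
      have h1 : r ^ l ∣ Nat.card G :=
        ((dvd_mul_left _ _).trans hd.symm.dvd).trans (Subgroup.card_subgroup_dvd_card T)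
      have h2 := (hr.out.pow_dvd_iff_le_factorization Nat.card_pos.ne').1 h1
      rw [R.card_eq_multiplicity] at ha₀
      rwa [Nat.pow_right_injective hr.out.two_le ha₀] at h2
    have hdvd : Nat.card T ∣ Nat.card L := by
      refine dvd_trans (hd ▸ Nat.mul_dvd_mul hd₁ (pow_dvd_pow r hl)) ?_
      refine Nat.Coprime.mul_dvd_of_dvd_of_dvd ?_ ?_ ?_
      · exact Nat.Coprime.pow _ _ ((Nat.coprime_primes hp.out hr.out).2 hrp.symm)
      · exact hi ▸ Subgroup.card_dvd_of_le le_sup_left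
      · exact ha₀ ▸ Subgroup.card_dvd_of_le le_sup_right
    have : L = T := Subgroup.eq_of_le_of_card_ge le_sup_right (Nat.le_of_dvd Nat.card_pos hdvd)
    rw [this]
    exact mem_sup_left (mem_zpowers z)
  have hRL : (R : Subgroup G) ≤ L := le_sup_right
  set R' : Sylow r L := R.subtype hRL
  set S₀ : Sylow r G := R.mapSurjective (f := (MulAut.conj m).toMonoidHom) (MulAut.conj m).surjective
    with hS₀
  have hS₀coe : (S₀ : Subgroup G) = (R : Subgroup G).map (MulAut.conj m).toMonoidHom :=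
    Sylow.coe_mapSurjective _ _
  have hS₀L : (S₀ : Subgroup G) ≤ L := by
    rw [hS₀coe]
    rintro _ ⟨a, ha, rfl⟩
    exact hconjL a ha
  obtain ⟨k, hk⟩ := MulAction.exists_smul_eq L R' (S₀.subtype hS₀L)
  obtain ⟨q, hq, b, hb, hqb⟩ := Coprime.mem_sup_exists (hRX.trans Qs_normalized) k.2
  refine ⟨q, hq, mem_inf.2 ⟨mul_mem (inv_mem (Qs_le hq)) hm, ?_⟩⟩
  have hkset : (R : Subgroup G).map (MulAut.conj (k : G)).toMonoidHom =
      (R : Subgroup G).map (MulAut.conj m).toMonoidHom := by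
    refine Eq.trans ?_ (Sylow.coe_mapSurjective (f := (MulAut.conj m).toMonoidHom)
      (MulAut.conj m).surjective R)
    refine le_antisymm ?_ ?_
    · rintro _ ⟨a, ha, rfl⟩
      have h1 : (MulAut.conj k (⟨a, hRL ha⟩ : L)) ∈ ((k • R' : Sylow r L) : Subgroup L) := by
        rw [Sylow.coe_subgroup_smul]
        exact Subgroup.smul_mem_pointwise_smul (⟨a, hRL ha⟩ : L) (MulAut.conj k) _ ha
      rw [hk] at h1
      exact mem_subgroupOf.1 h1
    · intro a ha
      have h1 : (⟨a, hS₀L ha⟩ : L) ∈ ((k • R' : Sylow r L) : Subgroup L) := by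
        rw [hk]; exact mem_subgroupOf.2 ha
      rw [Sylow.coe_subgroup_smul, Subgroup.mem_pointwise_smul_iff_inv_smul_mem] at h1
      refine ⟨(k : G)⁻¹ * a * k, ?_, by simp [mul_assoc]⟩
      have h2 : ((MulAut.conj k)⁻¹ • (⟨a, hS₀L ha⟩ : L) : L).1 ∈ (R : Subgroup G) :=
        mem_subgroupOf.1 h1
      have h3 : (k : G)⁻¹ * a * k ∈ (R : Subgroup G) := by simpa [mul_assoc] using h2
      exact h3
  rw [mem_normalizer_iff]
  intro a
  have hbR : ∀ x : G, x ∈ (R : Subgroup G) → b * x * b⁻¹ = x := fun x hx => by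
    rw [sylow_comm hG R hrp hb hx, mul_inv_cancel_right]
  have hkq : ∀ x ∈ (R : Subgroup G), (k : G) * x * (k : G)⁻¹ = q * x * q⁻¹ := fun x hx => by
    calc (k : G) * x * (k : G)⁻¹ = q * (b * x * b⁻¹) * q⁻¹ := by rw [← hqb]; group
      _ = _ := by rw [hbR x hx]
  constructor
  · intro ha
    obtain ⟨c, hc, hce⟩ := hkset.ge (mem_map_of_mem _ ha)
    simp only [MulEquiv.coe_toMonoidHom, MulAut.conj_apply, hkq c hc] at hce
    rw [show q⁻¹ * m * a * (q⁻¹ * m)⁻¹ = q⁻¹ * (m * a * m⁻¹) * q by group, ← hce,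
      show q⁻¹ * (q * c * q⁻¹) * q = c by group]
    exact hc
  · intro ha
    obtain ⟨c, hc, hce⟩ := hkset.le (mem_map_of_mem _ ha)
    simp only [MulEquiv.coe_toMonoidHom, MulAut.conj_apply, hkq _ ha] at hce
    have : a = c := by
      have h2 : m * a * m⁻¹ = m * c * m⁻¹ := by rw [hce]; group
      simpa using h2
    rwa [this]

/-- The local subgroup of any prime dividing `|M|` is `M`. -/
theorem Good.exists_via {M : Subgroup G} (hM : Good p M) {s : ℕ} (hs : s.Prime) (hsp : s ≠ p)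
    (hd : s ∣ Nat.card M) : ∃ S : Sylow s G, (S : Subgroup G) ≠ ⊥ ∧ Via M S := by
  obtain ⟨r, hr, hrp, R, hR, hV⟩ := hM
  haveI := Fact.mk hr
  haveI := Fact.mk hs
  have hsolM := hG.proper M hV.1.1
  have hdN : s ∣ Nat.card ↥(M ⊓ normalizer ((R : Subgroup G) : Set G)) := by
    have hle : M ≤ (M ⊓ normalizer ((R : Subgroup G) : Set G)) ⊔ Qs p M := by
      intro m hm
      obtain ⟨q, hq, hn⟩ := exists_Qs_mul_normalizer hG hsolM R hrp hV.le hm
      rw [← mul_inv_cancel_left q m]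
      exact mul_mem (mem_sup_right hq) (mem_sup_left hn)
    rcases hs.dvd_mul.1 ((hd.trans (Subgroup.card_dvd_of_le hle)).trans
      (Coprime.card_sup_dvd_of_le_normalizer (inf_le_left.trans Qs_normalized))) with h1 | h1
    · exact h1
    · obtain ⟨i, hi⟩ := IsPGroup.iff_card.1 (Qs_isPGroup (p := p) (M := M))
      exact absurd ((Nat.prime_dvd_prime_iff_eq hs hp.out).1 (hs.dvd_of_dvd_pow (hi ▸ h1))) hsp
  obtain ⟨⟨b, hb⟩, hbo⟩ := exists_prime_orderOf_dvd_card' s hdN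
  rw [Subgroup.orderOf_mk] at hbo
  obtain ⟨hbM, hbN⟩ := mem_inf.1 hb
  obtain ⟨S, hbS, hS⟩ := exists_sylow_mem hbo hs
  obtain ⟨M', hV'⟩ := AbHall.exists_via hG S hsp hS
  have hb1 : b ≠ 1 := ne_one_of_prime_order (hbo.symm ▸ hs)
  have hRM' : (R : Subgroup G) ≤ M' := fun a ha => hV'.2.2 b hbS hb1
    (mem_centralizer_singleton_iff.2 (reg_normalizer_le_centralizer hG R hrp hbN
      (sylow_reg S hsp hbS) ha).symm)
  have hsol' := hG.proper M' hV'.1.1
  have hQM : Qs p M' ≤ M := by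
    haveI := sylow_isMulCommutative hG R hrp
    refine Coprime.le_of_centralizers_le (A := (R : Subgroup G)) (sylow_not_cyclic hG R hrp hR)
      (hRM'.trans Qs_normalized) ?_ fun a ha ha1 => inf_le_right.trans (hV.2.2 a ha ha1)
    obtain ⟨i, hi⟩ := IsPGroup.iff_card.1 (Qs_isPGroup (p := p) (M := M'))
    rw [hi]
    exact (hp.out.coprime_iff_not_dvd.2 (sylow_not_dvd R hrp)).symm.pow_right i
  have hle : M' ≤ M := fun m hm => by
    obtain ⟨q, hq, hn⟩ := exists_Qs_mul_normalizer hG hsol' R hrp hRM' hm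
    rw [← mul_inv_cancel_left q m]
    exact mul_mem (hQM hq) (hV.2.1 (mem_inf.1 hn).2)
  have heq : M' = M := by
    by_contra hne
    exact hV.1.1 (hV'.1.2 M (lt_of_le_of_ne hle hne))
  exact ⟨S, hS, heq ▸ hV'⟩

/-- An element of prime order of `M` lies in a Sylow subgroup to which `M` belongs. -/
theorem Good.via_of_mem {M : Subgroup G} (hM : Good p M) {a : G} {s : ℕ} (ha : a ∈ M)
    (hs : s.Prime) (hao : orderOf a = s) (hsp : s ≠ p) :
    ∃ S : Sylow s G, a ∈ (S : Subgroup G) ∧ (S : Subgroup G) ≠ ⊥ ∧ Via M S := by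
  haveI := Fact.mk hs
  obtain ⟨S₀, hS₀, hV⟩ := hM.exists_via hG hs hsp (hao ▸ Subgroup.orderOf_dvd_natCard M ha)
  obtain ⟨T, hT⟩ := (isPGroup_zpowers (p := s) (g := (⟨a, ha⟩ : M))
    ⟨1, Subtype.ext (by rw [pow_one]; simp [← hao, pow_orderOf_eq_one])⟩).exists_le_sylow
  obtain ⟨m, hm⟩ := MulAction.exists_smul_eq M (S₀.subtype hV.le) T
  obtain ⟨S, hS, hV'⟩ := hV.conj (m : G)
  have hfix : M.map (MulAut.conj (m : G)).toMonoidHom = M :=
    (Subgroup.mem_normalizer_iff_map_conj_eq).1 (le_normalizer m.2)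
  rw [hfix] at hV'
  have haT := hT (mem_zpowers _)
  rw [← hm, Sylow.coe_subgroup_smul, Subgroup.mem_pointwise_smul_iff_inv_smul_mem] at haT
  have haS : a ∈ (S : Subgroup G) := by
    rw [hS]
    refine ⟨(m : G)⁻¹ * a * m, ?_, by simp [mul_assoc]⟩
    have h2 : ((MulAut.conj m)⁻¹ • (⟨a, ha⟩ : M) : M).1 ∈ (S₀ : Subgroup G) :=
      mem_subgroupOf.1 haT
    have h3 : (m : G)⁻¹ * a * m ∈ (S₀ : Subgroup G) := by simpa [mul_assoc] using h2
    exact h3
  exact ⟨S, haS, fun h0 => ne_one_of_prime_order (hao.symm ▸ hs) (mem_bot.1 (h0 ▸ haS)), hV'⟩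

theorem Good.centralizer_le {M : Subgroup G} (hM : Good p M) {y : G} (hy : y ∈ M) (hr : Reg p y)
    (hy1 : y ≠ 1) : centralizer ({y} : Set G) ≤ M := by
  obtain ⟨a, hay, hao, hap⟩ := exists_prime_pow_of_reg hr hy1
  obtain ⟨S, haS, -, hV⟩ := hM.via_of_mem hG (zpowers_le.2 hy hay) hao rfl hap
  exact (centralizer_le_of_mem_zpowers hay).trans (hV.2.2 a haS (ne_one_of_prime_order hao))

/-- `M` contains every element taking one of its regular elements into it. -/
theorem Good.mem_of_conj {M : Subgroup G} (hM : Good p M) {y g : G} (hy : y ∈ M) (hr : Reg p y)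
    (hy1 : y ≠ 1) (hg : g * y * g⁻¹ ∈ M) : g ∈ M := by
  obtain ⟨a, hay, hao, hap⟩ := exists_prime_pow_of_reg hr hy1
  haveI := Fact.mk hao
  obtain ⟨S, haS, -, hV⟩ := hM.via_of_mem hG (zpowers_le.2 hy hay) hao rfl hap
  set a' := g * a * g⁻¹ with ha'
  have ha'M : a' ∈ M := by
    obtain ⟨i, rfl⟩ := mem_zpowers_iff.1 hay
    rw [ha', ← conj_zpow]
    exact zpow_mem hg i
  have ho : orderOf a' = orderOf a := MulEquiv.orderOf_eq (MulAut.conj g) a
  obtain ⟨S', haS', -, hV'⟩ := hM.via_of_mem hG ha'M hao ho hap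
  set C := centralizer ({a'} : Set G)
  have h1 : (S' : Subgroup G) ≤ C := sylow_le_centralizer hG S' hap haS'
  set S₂ : Sylow (orderOf a) G :=
    S.mapSurjective (f := (MulAut.conj g).toMonoidHom) (MulAut.conj g).surjective with hS₂
  have hS₂coe : (S₂ : Subgroup G) = (S : Subgroup G).map (MulAut.conj g).toMonoidHom :=
    Sylow.coe_mapSurjective _ _
  have h2 : (S₂ : Subgroup G) ≤ C := by
    rw [hS₂coe]
    rintro _ ⟨x, hx, rfl⟩
    refine mem_centralizer_singleton_iff.2 ?_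
    show g * x * g⁻¹ * a' = a' * (g * x * g⁻¹)
    rw [ha', ← mul_inv_cancel_right (g * x * g⁻¹ * (g * a * g⁻¹)) g]
    calc g * x * g⁻¹ * (g * a * g⁻¹) * g * g⁻¹ = g * (x * a) * g⁻¹ := by group
      _ = g * (a * x) * g⁻¹ := by rw [sylow_comm hG S hap hx haS]
      _ = _ := by group
  obtain ⟨c, hc⟩ := MulAction.exists_smul_eq C (S₂.subtype h2) (S'.subtype h1)
  have hcM : (c : G) ∈ M := hV'.2.2 a' haS' (ne_one_of_prime_order (ho ▸ hao)) c.2
  obtain ⟨S₀, hS₀, -⟩ : ∃ S₀ : Sylow (orderOf a) M,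
      (S₀ : Subgroup M) = (S : Subgroup G).subgroupOf M ∧ True :=
    ⟨S.subtype hV.le, rfl, trivial⟩
  obtain ⟨m, hm⟩ := MulAction.exists_smul_eq M S₀ (S'.subtype hV'.le)
  -- `(m⁻¹ c g)` normalizes `S`
  have hn : ∀ x ∈ (S : Subgroup G), (m : G)⁻¹ * c * g * x * ((m : G)⁻¹ * c * g)⁻¹ ∈ (S : Subgroup G) := by
    intro x hx
    have hgx : g * x * g⁻¹ ∈ (S₂ : Subgroup G) := hS₂coe.ge ⟨x, hx, rfl⟩
    have h3 : c * (⟨g * x * g⁻¹, h2 hgx⟩ : C) * c⁻¹ ∈ ((c • S₂.subtype h2 : Sylow _ C) : Subgroup C) := by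
      rw [Sylow.coe_subgroup_smul]
      exact Subgroup.smul_mem_pointwise_smul (⟨g * x * g⁻¹, h2 hgx⟩ : C) (MulAut.conj c) _
        (mem_subgroupOf.2 hgx)
    rw [hc] at h3
    have h4 : (c : G) * (g * x * g⁻¹) * (c : G)⁻¹ ∈ (S' : Subgroup G) := mem_subgroupOf.1 h3
    have h5 : (⟨_, hV'.le h4⟩ : M) ∈ ((m • S₀ : Sylow _ M) : Subgroup M) := by
      rw [hm]; exact mem_subgroupOf.2 h4
    rw [Sylow.coe_subgroup_smul, Subgroup.mem_pointwise_smul_iff_inv_smul_mem, hS₀] at h5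
    have h6 : ((MulAut.conj m)⁻¹ • (⟨_, hV'.le h4⟩ : M) : M).1 ∈ (S : Subgroup G) :=
      mem_subgroupOf.1 h5
    simpa [mul_assoc] using h6
  have hn' : (m : G)⁻¹ * c * g ∈ normalizer ((S : Subgroup G) : Set G) := by
    rw [mem_normalizer_iff_map_conj_eq]
    refine Subgroup.eq_of_le_of_card_ge ?_ (Subgroup.card_map_of_injective
      (MulAut.conj _).injective).ge
    rintro _ ⟨x, hx, rfl⟩
    exact hn x hx
  have hfin := mul_mem (mul_mem (inv_mem hcM) m.2) (hV.2.1 hn')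
  simpa [mul_assoc] using hfin

/-- The centralizer of `O_p(M)` in `R` lies in `O_{p'}(M)`. -/
theorem centralizer_Qs_le_Fs {M : Subgroup G} (hM : Good p M) {r : ℕ} [hr : Fact r.Prime]
    (R : Sylow r G) (hrp : r ≠ p) (hRM : (R : Subgroup G) ≤ M) {a : G}
    (ha : a ∈ (R : Subgroup G)) (hc : ∀ q ∈ Qs p M, q * a = a * q) : a ∈ Fs p M := by
  have hsol := hM.solvable hG
  set A := (R : Subgroup G) ⊓ centralizer (Qs p M : Set G)
  have hAn : ∀ m ∈ M, ∀ x ∈ A, m * x * m⁻¹ ∈ A := by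
    intro m hm x hx
    obtain ⟨hxR, hxC⟩ := mem_inf.1 hx
    set z := m * x * m⁻¹
    have hzC : z ∈ centralizer (Qs p M : Set G) := Coprime.conj_mem_of_le_normalizer
      (Coprime.normalizer_le_normalizer_centralizer _) (Qs_normalized hm) hxC
    obtain ⟨q, hq, hn⟩ := exists_Qs_mul_normalizer hG hsol R hrp hRM hm
    set n := q⁻¹ * m
    have hρ : n * x * n⁻¹ ∈ (R : Subgroup G) := (mem_normalizer_iff.1 (mem_inf.1 hn).2 x).1 hxR
    have hz : z = n * x * n⁻¹ := by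
      calc z = q⁻¹ * (q * z) := by group
        _ = q⁻¹ * (z * q) := by rw [(mem_centralizer_iff.1 hzC) q hq]
        _ = n * x * n⁻¹ := by simp only [z, n]; group
    exact mem_inf.2 ⟨hz ▸ hρ, hzC⟩
  have hle : A ≤ Fs p M := le_Fs (inf_le_left.trans hRM)
    (fun m hm => mem_normalizer_iff.2 fun x => ⟨hAn m hm x, fun hx => by
      simpa [mul_assoc] using hAn m⁻¹ (inv_mem hm) _ hx⟩)
    (fun hd => sylow_not_dvd R hrp (hd.trans (Subgroup.card_dvd_of_le inf_le_left)))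
  exact hle (mem_inf.2 ⟨ha, mem_centralizer_iff.2 hc⟩)

end CfsgLib.Solv.AbHall
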