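import Cfsg.Agent.Lib.Solv.AbelianHallMinimal.Basic
import Cfsg.Agent.Lib.Coprime.FpfAction
import Cfsg.Agent.Lib.SolvSignalizer.Main
import Cfsg.Agent.Lib.Invol.SolvableBalance

/-!
# The minimal counterexample: the local subgroups attached to the primes `r ≠ p`
-/

set_option autoImplicit false
set_option linter.unusedSectionVars false
set_option linter.style.haveILetI false
set_option maxHeartbeats 800000

open Subgroup
open scoped commutatorElement

namespace CfsgLib.Solv.AbHall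

universe u

variable {G : Type u} [Group G] [Finite G] {p : ℕ} [hp : Fact p.Prime]

/-- A minimal counterexample. -/
structure Minimal (p : ℕ) (G : Type u) [Group G] : Prop where
  five : 5 ≤ p
  hyp : Hyp p G
  simple : IsSimpleGroup G
  nonsolvable : ¬ Group.IsSolvable G
  proper : ∀ H : Subgroup G, H ≠ ⊤ → Group.IsSolvable H

theorem Minimal.eq_top_of_le_normalizer (hG : Minimal p G) {N : Subgroup G}
    (hN : ⊤ ≤ normalizer (N : Set G)) : N = ⊥ ∨ N = ⊤ :=
  hG.simple.eq_bot_or_eq_top_of_normal N (Subgroup.normalizer_eq_top_iff.1 (top_le_iff.1 hN))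

theorem Minimal.centralizer_ne_top (hG : Minimal p G) {a : G} (ha : a ≠ 1) :
    centralizer ({a} : Set G) ≠ ⊤ := by
  intro h
  have hc : a ∈ center G := mem_center_iff.2 fun g =>
    mem_centralizer_singleton_iff.1 (h.ge (mem_top g))
  rcases hG.simple.eq_bot_or_eq_top_of_normal (center G) inferInstance with h1 | h1
  · exact ha (mem_bot.1 (h1 ▸ hc))
  · exact hG.nonsolvable (Group.isSolvable_of_comm fun x y =>
      ((mem_center_iff.1 (h1.ge (mem_top x))) y).symm)

theorem Minimal.normalizer_ne_top (hG : Minimal p G) {N : Subgroup G} (h0 : N ≠ ⊥)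
    (h1 : N ≠ ⊤) : normalizer (N : Set G) ≠ ⊤ := fun h =>
  (hG.eq_top_of_le_normalizer h.ge).elim h0 h1

theorem Minimal.commutator_eq_top (hG : Minimal p G) : commutator G = ⊤ := by
  rcases hG.simple.eq_bot_or_eq_top_of_normal (commutator G) inferInstance with h | h
  · refine absurd (Group.isSolvable_of_comm fun x y => ?_) hG.nonsolvable
    have : (⁅x, y⁆ : G) ∈ commutator G := by
      rw [_root_.commutator_def]; exact commutator_mem_commutator (mem_top x) (mem_top y)
    rw [h, mem_bot] at this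
    exact commutatorElement_eq_one_iff_mul_comm.1 this
  · exact h

theorem centralizer_zpowers_eq {H : Type*} [Group H] (a : H) :
    centralizer (zpowers a : Set H) = centralizer ({a} : Set H) := by
  rw [zpowers_eq_closure, Subgroup.centralizer_closure]

theorem exists_ne_one_of_ne_bot' {H : Subgroup G} (h : H ≠ ⊥) : ∃ x ∈ H, x ≠ 1 := by
  obtain ⟨x, hx⟩ := Subgroup.ne_bot_iff_exists_ne_one.1 h
  exact ⟨x, x.2, fun h1 => hx (Subtype.ext h1)⟩

/-! ## The three cores of a subgroup, as subgroups of the ambient group -/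

/-- `O_p(M)`. -/
def Qs (p : ℕ) (M : Subgroup G) : Subgroup G := (Cfsg.pCore p M).map M.subtype

/-- `O_{p'}(M)`. -/
def Fs (p : ℕ) (M : Subgroup G) : Subgroup G := (Cfsg.pPrimeCore p M).map M.subtype

/-- The preimage of `O_{p'}(M / O_p(M))`. -/
def Ks (p : ℕ) (M : Subgroup G) : Subgroup G := (regKer p M).map M.subtype

section Cores

variable {M : Subgroup G}

theorem Qs_le : Qs p M ≤ M := map_subtype_le _
theorem Fs_le : Fs p M ≤ M := map_subtype_le _
theorem Ks_le : Ks p M ≤ M := map_subtype_le _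

theorem mem_map_subtype_iff {N : Subgroup M} {g : G} :
    g ∈ N.map M.subtype ↔ ∃ hg : g ∈ M, (⟨g, hg⟩ : M) ∈ N := by
  constructor
  · rintro ⟨x, hx, rfl⟩; exact ⟨x.2, hx⟩
  · rintro ⟨hg, hx⟩; exact ⟨_, hx, rfl⟩

theorem normal_conj_mem {N : Subgroup M} (hN : N.Normal) {m x : G} (hm : m ∈ M)
    (hx : x ∈ N.map M.subtype) : m * x * m⁻¹ ∈ N.map M.subtype := by
  obtain ⟨y, hy, rfl⟩ := hx
  exact ⟨⟨m, hm⟩ * y * ⟨m, hm⟩⁻¹, hN.conj_mem y hy _, rfl⟩

theorem le_normalizer_map {N : Subgroup M} (hN : N.Normal) :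
    M ≤ normalizer (N.map M.subtype : Set G) := by
  intro m hm
  refine mem_normalizer_iff.2 fun x => ⟨normal_conj_mem hN hm, fun hx => ?_⟩
  simpa [mul_assoc] using normal_conj_mem hN (inv_mem hm) hx

theorem Qs_normalized : M ≤ normalizer (Qs p M : Set G) :=
  le_normalizer_map (Coprime.pCore_normal' p)

theorem Fs_normalized : M ≤ normalizer (Fs p M : Set G) :=
  le_normalizer_map (Subgroup.sSup_normal _ (fun _ h => h.1))

theorem Ks_normalized : M ≤ normalizer (Ks p M : Set G) := le_normalizer_map (regKer_normal p)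

theorem Qs_isPGroup : IsPGroup p (Qs p M) := (Coprime.pCore_isPGroup p).map _

theorem Fs_not_dvd : ¬ p ∣ Nat.card (Fs p M) := by
  rw [Fs, Subgroup.card_map_of_injective M.subtype_injective]
  exact Coprime.pPrimeCore_not_dvd hp.out

theorem Fs_reg {f : G} (hf : f ∈ Fs p M) : Reg p f := reg_of_mem Fs_not_dvd hf

theorem Qs_inf_Fs {x : G} (hq : x ∈ Qs p M) (hf : x ∈ Fs p M) : x = 1 :=
  (pelt_of_mem Qs_isPGroup hq).eq_one (Fs_reg hf)

theorem Qs_comm_Fs {q f : G} (hq : q ∈ Qs p M) (hf : f ∈ Fs p M) : q * f = f * q := by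
  refine commutatorElement_eq_one_iff_mul_comm.1 (Qs_inf_Fs (p := p) (M := M) ?_ ?_)
  · rw [commutatorElement_def, show q * f * q⁻¹ * f⁻¹ = q * (f * q⁻¹ * f⁻¹) by group]
    exact mul_mem hq (Coprime.conj_mem_of_le_normalizer Qs_normalized (Fs_le hf) (inv_mem hq))
  · rw [commutatorElement_def]
    exact mul_mem (Coprime.conj_mem_of_le_normalizer Fs_normalized (Qs_le hq) hf) (inv_mem hf)

theorem Qs_le_Ks : Qs p M ≤ Ks p M := map_mono pCore_le_regKer

theorem le_Qs {N : Subgroup G} (hN : N ≤ M) (hn : M ≤ normalizer (N : Set G))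
    (hNp : IsPGroup p N) : N ≤ Qs p M := by
  haveI : (N.subgroupOf M).Normal := (normal_subgroupOf_iff_le_normalizer hN).2 hn
  have h1 : N.subgroupOf M ≤ Cfsg.pCore p M :=
    Coprime.le_pCore (hNp.of_equiv (Subgroup.subgroupOfEquivOfLe hN).symm)
  exact fun x hx => ⟨⟨x, hN hx⟩, h1 hx, rfl⟩

theorem le_Fs {N : Subgroup G} (hN : N ≤ M) (hn : M ≤ normalizer (N : Set G))
    (hNp : ¬ p ∣ Nat.card N) : N ≤ Fs p M := by
  haveI : (N.subgroupOf M).Normal := (normal_subgroupOf_iff_le_normalizer hN).2 hn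
  have h1 : N.subgroupOf M ≤ Cfsg.pPrimeCore p M := Coprime.le_pPrimeCore_of_not_dvd hp.out
    (by rwa [Nat.card_congr (Subgroup.subgroupOfEquivOfLe hN).toEquiv])
  exact fun x hx => ⟨⟨x, hN hx⟩, h1 hx, rfl⟩

variable (h : Hyp p G) (hM : Group.IsSolvable M)
include h

theorem reg_comm_Fs {y f : G} (hy : y ∈ M) (hr : Reg p y) (hf : f ∈ Fs p M) : y * f = f * y := by
  obtain ⟨f, hf', rfl⟩ := hf
  exact congrArg M.subtype ((h.subgroup M).comm_pPrimeCore (y := ⟨y, hy⟩) (reg_subtype.2 hr) hf')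

theorem Fs_comm {x y : G} (hx : x ∈ Fs p M) (hy : y ∈ Fs p M) : x * y = y * x :=
  reg_comm_Fs h (Fs_le hx) (Fs_reg hx) hy

theorem Fs_isMulCommutative : IsMulCommutative (Fs p M) :=
  ⟨⟨fun a b => Subtype.ext (Fs_comm h a.2 b.2)⟩⟩

include hM

theorem reg_mem_Ks {y : G} (hy : y ∈ M) (hr : Reg p y) : y ∈ Ks p M :=
  ⟨⟨y, hy⟩, reg_mem_regKer (h.subgroup M) (reg_subtype.2 hr), rfl⟩

theorem commutator_Ks {x y : G} (hx : x ∈ Ks p M) (hy : y ∈ Ks p M) :
    x * y * x⁻¹ * y⁻¹ ∈ Qs p M := by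
  obtain ⟨x, hx, rfl⟩ := hx
  obtain ⟨y, hy, rfl⟩ := hy
  exact ⟨_, commutator_regKer (h.subgroup M) hx hy, by simp⟩

theorem pelt_Ks {x : G} (hx : x ∈ Ks p M) (hxp : PElt p x) : x ∈ Qs p M := by
  obtain ⟨x, hx, rfl⟩ := hx
  obtain ⟨k, hk⟩ := hxp
  exact ⟨x, pelt_regKer (h.subgroup M) hx ⟨k, Subtype.ext (by simpa using hk)⟩, rfl⟩

end Cores

/-! ## The facts about a Sylow `r`-subgroup -/

section Sylow

variable (hG : Minimal p G) {r : ℕ} [hr : Fact r.Prime] (R : Sylow r G) (hrp : r ≠ p)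
include hrp

theorem sylow_not_dvd : ¬ p ∣ Nat.card (R : Subgroup G) := by
  obtain ⟨j, hj⟩ := IsPGroup.iff_card.1 R.2
  rw [hj]
  exact fun hd => hrp ((Nat.prime_dvd_prime_iff_eq hp.out hr.out).1 (hp.out.dvd_of_dvd_pow hd)).symm

theorem sylow_reg {a : G} (ha : a ∈ (R : Subgroup G)) : Reg p a :=
  reg_of_mem (sylow_not_dvd R hrp) ha

include hG

theorem sylow_comm {a b : G} (ha : a ∈ (R : Subgroup G)) (hb : b ∈ (R : Subgroup G)) :
    a * b = b * a := hG.hyp.comm_mem (sylow_not_dvd R hrp) ha hb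

theorem sylow_isMulCommutative : IsMulCommutative (R : Subgroup G) :=
  ⟨⟨fun a b => Subtype.ext (sylow_comm hG R hrp a.2 b.2)⟩⟩

theorem sylow_le_centralizer {a : G} (ha : a ∈ (R : Subgroup G)) :
    (R : Subgroup G) ≤ centralizer ({a} : Set G) := fun _ hb =>
  mem_centralizer_singleton_iff.2 (sylow_comm hG R hrp hb ha)

theorem prime_succ_lt (hd : r ∣ Nat.card G) : r + 1 < p := by
  have h5 := hG.five
  obtain ⟨c, hc⟩ := hG.hyp.prime_dvd hr.out hrp hd
  have hr2 := hr.out.two_le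
  rcases Nat.lt_or_ge c 2 with hc2 | hc2
  · interval_cases c
    · omega
    · rcases hr.out.eq_two_or_odd with h2 | h2
      · omega
      · rcases hp.out.eq_two_or_odd with h3 | h3 <;> omega
  · have : r * 2 ≤ r * c := Nat.mul_le_mul_left r hc2
    omega

/-- A regular element normalizing `R` centralizes it. -/
theorem reg_normalizer_le_centralizer {y : G} (hy : y ∈ normalizer ((R : Subgroup G) : Set G))
    (hyr : Reg p y) {a : G} (ha : a ∈ (R : Subgroup G)) : y * a = a * y := by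
  refine hG.hyp.comm_mem (H := zpowers y ⊔ (R : Subgroup G)) (fun hd => ?_)
    (mem_sup_left (mem_zpowers y)) (mem_sup_right ha)
  rcases hp.out.dvd_mul.1
    (hd.trans (Coprime.card_sup_dvd_of_le_normalizer (zpowers_le.2 hy))) with hz | hz
  · exact not_dvd_zpowers hyr hz
  · exact sylow_not_dvd R hrp hz

/-- Transfer: no nontrivial element of `R` centralizes the normalizer. -/
theorem eq_one_of_centralizes_normalizer {a : G} (ha : a ∈ (R : Subgroup G))
    (hc : ∀ n ∈ normalizer ((R : Subgroup G) : Set G), n * a = a * n) : a = 1 := by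
  set N := normalizer ((R : Subgroup G) : Set G)
  have hab := sylow_isMulCommutative hG R hrp
  have hfoc : commutator G ⊓ (R : Subgroup G) = (R : Subgroup G).focalSubgroup :=
    Fusion.commutator_inf_eq_focal (Fusion.coprime_card_focalQuotient R)
  rw [hG.commutator_eq_top, top_inf_eq, Fusion.focalSubgroup_abelian_sylow R hab] at hfoc
  have hle : (R : Subgroup G) ≤ N := le_normalizer
  haveI : ((R : Subgroup G).subgroupOf N).Normal := normal_in_normalizer
  haveI : IsMulCommutative ((R : Subgroup G).subgroupOf N) := by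
    refine ⟨⟨fun x y => Subtype.ext (Subtype.ext ?_)⟩⟩
    exact sylow_comm hG R hrp (mem_subgroupOf.1 x.2) (mem_subgroupOf.1 y.2)
  set R' : Subgroup N := (R : Subgroup G).subgroupOf N
  have hcop : Nat.Coprime (Nat.card R') R'.index := (R.subtype hle).card_coprime_index
  have hcom : (⟨a, hle ha⟩ : N) ∈ ⁅R', (⊤ : Subgroup N)⁆ := by
    have h1 : (⁅R', (⊤ : Subgroup N)⁆).map N.subtype = (R : Subgroup G) := by
      rw [map_commutator, ← MonoidHom.range_eq_map, Subgroup.range_subtype,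
        Subgroup.map_subgroupOf_eq_of_le hle, ← hfoc]
    obtain ⟨x, hx, hxa⟩ := h1.ge ha
    have : x = ⟨a, hle ha⟩ := Subtype.ext hxa
    exact this ▸ hx
  rw [Fusion.commutator_top_eq_inf_commutator R' hcop] at hcom
  have := Fusion.central_inf_commutator_eq_one R' hcop
    (mem_center_iff.2 fun n => Subtype.ext (hc n n.2)) (mem_inf.1 hcom).1 (mem_inf.1 hcom).2
  exact congrArg Subtype.val this

variable (hR : (R : Subgroup G) ≠ ⊥)
include hR

theorem dvd_card : r ∣ Nat.card G := by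
  obtain ⟨j, hj⟩ := IsPGroup.iff_card.1 R.2
  have hj0 : j ≠ 0 := fun h0 => hR (Subgroup.card_eq_one.1 (by rw [hj, h0, pow_zero]))
  exact ((dvd_pow_self r hj0).trans hj.symm.dvd).trans (Subgroup.card_subgroup_dvd_card _)

/-- Some `p`-element normalizes but does not centralize `R`. -/
theorem exists_mover :
    ∃ x ∈ normalizer ((R : Subgroup G) : Set G), PElt p x ∧
      ∃ a ∈ (R : Subgroup G), x * a ≠ a * x := by
  by_contra hno
  push Not at hno
  obtain ⟨a, ha, ha1⟩ := exists_ne_one_of_ne_bot' hR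
  refine ha1 (eq_one_of_centralizes_normalizer hG R hrp ha fun n hn => ?_)
  obtain ⟨v, k, hv, hk, rfl, hvp, hkr⟩ := exists_split p n
  have h1 := hno v (zpowers_le.2 hn hv) hvp a ha
  have h2 := reg_normalizer_le_centralizer hG R hrp (zpowers_le.2 hn hk) hkr ha
  rw [mul_assoc, h2, ← mul_assoc, h1, mul_assoc]

/-- The elementary abelian subgroup of elements of order dividing `r`. -/
theorem exists_omega : ∃ E : Subgroup G, Cfsg.IsElementaryAbelian r E ∧ r ^ 3 ≤ Nat.card E ∧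
    ∀ x : G, x ∈ E ↔ x ∈ (R : Subgroup G) ∧ x ^ r = 1 := by
  obtain ⟨E, hmem⟩ : ∃ E : Subgroup G, ∀ x : G, x ∈ E ↔ x ∈ (R : Subgroup G) ∧ x ^ r = 1 :=
    ⟨{ carrier := {x | x ∈ (R : Subgroup G) ∧ x ^ r = 1}
       one_mem' := ⟨one_mem _, one_pow _⟩
       mul_mem' := fun {a b} ha hb => ⟨mul_mem ha.1 hb.1, by
         rw [Commute.mul_pow (sylow_comm hG R hrp ha.1 hb.1), ha.2, hb.2, one_mul]⟩
       inv_mem' := fun {a} ha => ⟨inv_mem ha.1, by rw [inv_pow, ha.2, inv_one]⟩ }, fun x => Iff.rfl⟩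
  refine ⟨E, ⟨⟨⟨fun a b => Subtype.ext
      (sylow_comm hG R hrp ((hmem a).1 a.2).1 ((hmem b).1 b.2).1)⟩⟩,
    fun a ha => ((hmem a).1 ha).2⟩, ?_, hmem⟩
  by_contra hlt
  obtain ⟨e, he⟩ := IsPGroup.iff_card.1 (R.2.to_le (show E ≤ (R : Subgroup G) from fun x hx => ((hmem x).1 hx).1))
  have he2 : e ≤ 2 := by
    by_contra hc
    exact hlt (he ▸ Nat.pow_le_pow_right hr.out.pos (by omega))
  obtain ⟨x, hxN, hxp, a, ha, hxa⟩ := exists_mover hG R hrp hR
  haveI := sylow_isMulCommutative hG R hrp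
  have hlt' := prime_succ_lt hG hrp (dvd_card hG R hrp hR)
  obtain ⟨k, hk⟩ := hxp
  have hxE : x ∈ normalizer (E : Set G) := by
    refine mem_normalizer_iff.2 fun y => ?_
    rw [hmem, hmem, conj_pow, conj_eq_one_iff]
    exact and_congr_left fun _ => mem_normalizer_iff.1 hxN y
  have hcent : x ∈ centralizer (E : Set G) := by
    refine Fusion.mem_centralizer_of_prime_pow (q := p) he hxE ⟨k, hk⟩ hrp.symm fun i h1 h2 hd => ?_
    have hi : i = 1 ∨ i = 2 := by omega
    rcases hi with rfl | rfl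
    · rw [pow_one] at hd
      have := Nat.le_of_dvd (by have := hr.out.two_le; omega) hd
      omega
    · rw [show r ^ 2 - 1 = (r + 1) * (r - 1) by rw [← Nat.sq_sub_sq r 1, one_pow]] at hd
      rcases hp.out.dvd_mul.1 hd with h3 | h3
      · have := Nat.le_of_dvd (by omega) h3; omega
      · have := Nat.le_of_dvd (by have := hr.out.two_le; omega) h3; omega
  refine hxa (Coprime.commute_of_fix_prime_order hxN ?_ (fun v hv hvq => ?_) a ha)
  · obtain ⟨j, -, hj⟩ := (Nat.dvd_prime_pow hp.out).1 (orderOf_dvd_of_pow_eq_one hk)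
    rw [hj]
    exact ((hp.out.coprime_iff_not_dvd).2 (sylow_not_dvd R hrp)).pow_left j
  · obtain ⟨j, hj⟩ := IsPGroup.iff_card.1 R.2
    have hd := Subgroup.orderOf_dvd_natCard _ hv
    rw [hj] at hd
    have hvr : orderOf v = r :=
      (Nat.prime_dvd_prime_iff_eq hvq hr.out).1 (hvq.dvd_of_dvd_pow hd)
    exact ((mem_centralizer_iff.1 hcent) v ((hmem v).2 ⟨hv, hvr ▸ pow_orderOf_eq_one v⟩)).symm

theorem sylow_not_cyclic : ¬ IsCyclic (R : Subgroup G) := by
  intro hc
  obtain ⟨E, hE, hE3, hmem⟩ := exists_omega hG R hrp hR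
  haveI := isCyclic_of_injective (Subgroup.inclusion (show E ≤ (R : Subgroup G) from
    fun x hx => ((hmem x).1 hx).1)) (Subgroup.inclusion_injective _)
  exact SolvSignalizer.not_cyclic_of_exponent hE
    ((Nat.pow_le_pow_right hr.out.pos (by norm_num)).trans hE3) inferInstance

end Sylow

/-- The local subgroup `M` belongs to the Sylow `r`-subgroup `R`. -/
def Via {r : ℕ} (M : Subgroup G) (R : Sylow r G) : Prop :=
  IsCoatom M ∧ normalizer ((R : Subgroup G) : Set G) ≤ M ∧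
    ∀ a ∈ (R : Subgroup G), a ≠ 1 → centralizer ({a} : Set G) ≤ M

theorem Via.le {r : ℕ} {M : Subgroup G} {R : Sylow r G} (h : Via M R) :
    (R : Subgroup G) ≤ M := le_normalizer.trans h.2.1

/-- A maximal subgroup attached to some prime `r ≠ p`. -/
def Good (p : ℕ) (M : Subgroup G) : Prop :=
  ∃ r : ℕ, r.Prime ∧ r ≠ p ∧ ∃ R : Sylow r G, (R : Subgroup G) ≠ ⊥ ∧ Via M R

theorem Good.coatom {M : Subgroup G} (h : Good p M) : IsCoatom M := by
  obtain ⟨r, -, -, R, -, hV⟩ := h
  exact hV.1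

theorem Good.solvable (hG : Minimal p G) {M : Subgroup G} (h : Good p M) : Group.IsSolvable M :=
  hG.proper M h.coatom.1

theorem Good.eq_of_le {M X : Subgroup G} (h : Good p M) (hle : M ≤ X) (hX : X ≠ ⊤) : X = M := by
  by_contra hne
  exact hX (h.coatom.2 X (lt_of_le_of_ne hle (Ne.symm hne)))

theorem Via.conj {r : ℕ} [Fact r.Prime] {M : Subgroup G} {R : Sylow r G} (h : Via M R) (t : G) :
    ∃ S : Sylow r G, (S : Subgroup G) = (R : Subgroup G).map (MulAut.conj t).toMonoidHom ∧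
      Via (M.map (MulAut.conj t).toMonoidHom) S := by
  refine ⟨R.mapSurjective (f := (MulAut.conj t).toMonoidHom) (MulAut.conj t).surjective,
    Sylow.coe_mapSurjective _ _, ?_⟩
  generalize hS : R.mapSurjective (f := (MulAut.conj t).toMonoidHom) (MulAut.conj t).surjective = S
  have hScoe : (S : Subgroup G) = (R : Subgroup G).map (MulAut.conj t).toMonoidHom := by
    rw [← hS]; exact Sylow.coe_mapSurjective _ _
  refine ⟨?_, ?_, ?_⟩
  · exact ((MulAut.conj t).mapSubgroup.isCoatom_iff M).2 h.1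
  · rw [hScoe, ← Subgroup.map_equiv_normalizer_eq]
    exact map_mono h.2.1
  · intro a ha ha1
    rw [hScoe] at ha
    obtain ⟨b, hb, rfl⟩ := ha
    intro g hg
    refine ⟨t⁻¹ * g * t, h.2.2 b hb (fun h1 => ha1 (by rw [h1, map_one])) ?_, by simp [mul_assoc]⟩
    refine mem_centralizer_singleton_iff.2 ?_
    have := mem_centralizer_singleton_iff.1 hg
    simp only [MulEquiv.coe_toMonoidHom, MulAut.conj_apply] at this
    calc t⁻¹ * g * t * b = t⁻¹ * (g * (t * b * t⁻¹)) * t := by group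
      _ = t⁻¹ * ((t * b * t⁻¹) * g) * t := by rw [this]
      _ = b * (t⁻¹ * g * t) := by group

theorem Good.conj {M : Subgroup G} (h : Good p M) (t : G) :
    Good p (M.map (MulAut.conj t).toMonoidHom) := by
  obtain ⟨r, hr, hrp, R, hR, hV⟩ := h
  haveI := Fact.mk hr
  obtain ⟨S, hS, hV'⟩ := hV.conj t
  exact ⟨r, hr, hrp, S, fun h0 => hR ((Subgroup.map_eq_bot_iff_of_injective _
    (MulAut.conj t).injective).1 (hS ▸ h0)), hV'⟩

variable (hG : Minimal p G)
include hG

/-- The signalizer functor `O_{r'}(C(a))` yields a local subgroup for `R`. -/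
theorem exists_via {r : ℕ} [hr : Fact r.Prime] (R : Sylow r G) (hrp : r ≠ p)
    (hR : (R : Subgroup G) ≠ ⊥) : ∃ M : Subgroup G, Via M R := by
  obtain ⟨E, hE, hE3, hmem⟩ := exists_omega hG R hrp hR
  set N := normalizer ((R : Subgroup G) : Set G) with hNdef
  have hsolv : ∀ a : G, a ≠ 1 → Group.IsSolvable (centralizer ({a} : Set G)) :=
    fun a ha => hG.proper _ (hG.centralizer_ne_top ha)
  set θ : G → Subgroup G := fun a =>
    (Cfsg.pPrimeCore r (centralizer ({a} : Set G))).map (centralizer ({a} : Set G)).subtype with hθ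
  have hθle : ∀ a, θ a ≤ centralizer ({a} : Set G) := fun a => map_subtype_le _
  have hθr : ∀ a, ¬ r ∣ Nat.card (θ a) := fun a => by
    show ¬ r ∣ Nat.card ((Cfsg.pPrimeCore r (centralizer ({a} : Set G))).map _)
    rw [Subgroup.card_map_of_injective (Subgroup.subtype_injective _)]
    exact Coprime.pPrimeCore_not_dvd hr.out
  have hθn : ∀ a, centralizer ({a} : Set G) ≤ normalizer (θ a : Set G) := fun a =>
    le_normalizer_map (Subgroup.sSup_normal _ (fun _ h => h.1))
  have hEC : ∀ a ∈ E, ∀ b ∈ E, b ∈ centralizer ({a} : Set G) := fun a ha b hb =>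
    mem_centralizer_singleton_iff.2 (sylow_comm hG R hrp ((hmem b).1 hb).1 ((hmem a).1 ha).1)
  have hbal : ∀ a ∈ E, a ≠ 1 → ∀ b ∈ E, b ≠ 1 → θ a ⊓ centralizer ({b} : Set G) ≤ θ b := by
    intro a ha ha1 b hb hb1
    set C := centralizer ({b} : Set G)
    haveI := hsolv b hb1
    have haC : a ∈ C := hEC b hb a ha
    have h1 : (θ a ⊓ C).subgroupOf C ≤ Cfsg.pPrimeCore r C := by
      refine Invol.le_pPrimeCore_of_centralizer_invariant (p := r) (a := (⟨a, haC⟩ : C)) ?_
        (fun h1 => ha1 (congrArg Subtype.val h1)) ?_ ?_ ?_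
      · refine isPGroup_zpowers (p := r) ⟨1, Subtype.ext ?_⟩
        rw [pow_one]; exact ((hmem a).1 ha).2
      · intro x hx
        rw [centralizer_zpowers_eq, mem_centralizer_singleton_iff]
        exact Subtype.ext (mem_centralizer_singleton_iff.1 (hθle a (mem_inf.1 (mem_subgroupOf.1 hx)).1))
      · rw [Nat.card_congr (Subgroup.subgroupOfEquivOfLe inf_le_right).toEquiv]
        exact fun hd => hθr a (hd.trans (Subgroup.card_dvd_of_le inf_le_left))
      · intro c hc
        rw [centralizer_zpowers_eq, mem_centralizer_singleton_iff] at hc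
        have hc' : (c : G) ∈ centralizer ({a} : Set G) :=
          mem_centralizer_singleton_iff.2 (congrArg Subtype.val hc)
        refine mem_normalizer_iff.2 fun x => ?_
        simp only [mem_subgroupOf, mem_inf]
        refine and_congr ?_ ⟨fun _ => (c * x * c⁻¹).2, fun _ => x.2⟩
        exact mem_normalizer_iff.1 (hθn a hc') x
    exact fun x hx => ⟨⟨x, (mem_inf.1 hx).2⟩, h1 (mem_subgroupOf.2 hx), rfl⟩
  have hθf : Cfsg.IsSolvableSignalizerFunctor r E θ := by
    refine ⟨⟨fun a _ _ => hθle a, fun a _ _ => hθr a, fun a ha _ b hb x hx =>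
      Coprime.conj_mem_of_le_normalizer (hθn a) (hEC a ha b hb) hx, hbal⟩, fun a _ ha1 => ?_⟩
    exact Coprime.isSolvable_of_le (hθle a) (hsolv a ha1)
  obtain ⟨W, ⟨-, hWr, hWE, hWθ⟩, hθW⟩ := SolvSignalizer.exists_complete hE hE3 hθf
  have hEn : E ≤ normalizer (W : Set G) := by
    intro b hb
    refine mem_normalizer_iff.2 fun x => ⟨hWE b hb x, fun hx => ?_⟩
    simpa [mul_assoc] using hWE b⁻¹ (inv_mem hb) _ hx
  have hWgen : ∀ U : Subgroup G, (∀ a ∈ E, a ≠ 1 → θ a ≤ U) → W ≤ U := fun U hU =>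
    SolvSignalizer.le_of_fixed_points hE
      ((Nat.pow_le_pow_right hr.out.pos (by norm_num)).trans hE3) hEn hWr
      fun a ha ha1 => (hWθ a ha ha1).trans (hU a ha ha1)
  have hconj : ∀ n ∈ N, ∀ a ∈ E, a ≠ 1 → (θ a).map (MulAut.conj n).toMonoidHom ≤ W := by
    intro n hn a ha ha1
    set b := n * a * n⁻¹
    have hb : b ∈ E := (hmem b).2 ⟨(mem_normalizer_iff.1 hn a).1 ((hmem a).1 ha).1, by
      rw [conj_pow, ((hmem a).1 ha).2]; group⟩
    have hb1 : b ≠ 1 := fun h1 => ha1 (conj_eq_one_iff.1 h1)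
    refine le_trans ?_ (hθW b hb hb1)
    set C := centralizer ({b} : Set G)
    set U := (θ a).map (MulAut.conj n).toMonoidHom
    have hback : ∀ c ∈ C, n⁻¹ * c * n ∈ centralizer ({a} : Set G) := fun c hc => by
      refine mem_centralizer_singleton_iff.2 ?_
      have := mem_centralizer_singleton_iff.1 hc
      calc n⁻¹ * c * n * a = n⁻¹ * (c * b) * n := by simp only [b]; group
        _ = n⁻¹ * (b * c) * n := by rw [this]
        _ = a * (n⁻¹ * c * n) := by simp only [b]; group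
    have hUC : U ≤ C := by
      rintro _ ⟨x, hx, rfl⟩
      refine mem_centralizer_singleton_iff.2 ?_
      have := mem_centralizer_singleton_iff.1 (hθle a hx)
      simp only [b, MulEquiv.coe_toMonoidHom, MulAut.conj_apply]
      calc n * x * n⁻¹ * (n * a * n⁻¹) = n * (x * a) * n⁻¹ := by group
        _ = n * a * n⁻¹ * (n * x * n⁻¹) := by rw [this]; group
    have hUn : ∀ c ∈ C, ∀ y ∈ U, c * y * c⁻¹ ∈ U := by
      rintro c hc _ ⟨x, hx, rfl⟩
      exact ⟨n⁻¹ * c * n * x * (n⁻¹ * c * n)⁻¹,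
        Coprime.conj_mem_of_le_normalizer (hθn a) (hback c hc) hx, by simp [mul_assoc]⟩
    haveI : (U.subgroupOf C).Normal := ⟨fun x hx c => hUn c c.2 x hx⟩
    have h1 : U.subgroupOf C ≤ Cfsg.pPrimeCore r C := Coprime.le_pPrimeCore_of_not_dvd hr.out (by
      rw [Nat.card_congr (Subgroup.subgroupOfEquivOfLe hUC).toEquiv,
        Subgroup.card_map_of_injective (MulAut.conj n).injective]
      exact hθr a)
    exact fun x hx => ⟨⟨x, hUC hx⟩, h1 hx, rfl⟩
  have hNW : N ≤ normalizer (W : Set G) := by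
    have hin : ∀ n ∈ N, ∀ x ∈ W, n * x * n⁻¹ ∈ W := fun n hn x hx =>
      hWgen (W.comap (MulAut.conj n).toMonoidHom)
        (fun a ha ha1 => map_le_iff_le_comap.1 (hconj n hn a ha ha1)) hx
    exact fun n hn => mem_normalizer_iff.2 fun x => ⟨hin n hn x, fun hx => by
      simpa [mul_assoc] using hin n⁻¹ (inv_mem hn) _ hx⟩
  have hWtop : W ≠ ⊤ := fun h => hWr (h ▸ by
    rw [Subgroup.card_top]; exact dvd_card hG R hrp hR)
  have hRtop : (R : Subgroup G) ≠ ⊤ := fun h => hG.nonsolvable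
    (Group.isSolvable_of_comm fun x y => sylow_comm hG R hrp (h.ge (mem_top x)) (h.ge (mem_top y)))
  obtain ⟨X, hX, hNX, hWX⟩ : ∃ X : Subgroup G, X ≠ ⊤ ∧ N ≤ X ∧ W ≤ X := by
    rcases eq_or_ne W ⊥ with h0 | h0
    · exact ⟨N, hG.normalizer_ne_top hR hRtop, le_rfl, h0.le.trans bot_le⟩
    · exact ⟨_, hG.normalizer_ne_top h0 hWtop, hNW, le_normalizer⟩
  obtain ⟨M, hM, hXM⟩ := (eq_top_or_exists_le_coatom X).resolve_left hX
  refine ⟨M, hM, hNX.trans hXM, fun a ha ha1 => ?_⟩
  obtain ⟨j, hj⟩ := R.2 ⟨a, ha⟩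
  obtain ⟨b, hb, hb1, hba⟩ : ∃ b ∈ E, b ≠ 1 ∧ b ∈ zpowers a := by
    obtain ⟨k, -, hk⟩ := (Nat.dvd_prime_pow hr.out).1
      (orderOf_dvd_of_pow_eq_one (congrArg Subtype.val hj : a ^ r ^ j = 1))
    obtain ⟨k', rfl⟩ : ∃ k', k = k' + 1 := Nat.exists_eq_succ_of_ne_zero fun h0 =>
      ha1 (orderOf_eq_one_iff.1 (by rw [hk, h0, pow_zero]))
    refine ⟨a ^ r ^ k', (hmem _).2 ⟨pow_mem ha _, ?_⟩, fun h1 => ?_, pow_mem (mem_zpowers a) _⟩
    · rw [← pow_mul, ← pow_succ, ← hk, pow_orderOf_eq_one]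
    · have := Nat.le_of_dvd (pow_pos hr.out.pos _) (hk ▸ orderOf_dvd_of_pow_eq_one h1)
      have h2 : r ^ k' < r ^ (k' + 1) := Nat.pow_lt_pow_right hr.out.one_lt (by omega)
      omega
  refine le_trans (fun g hg => ?_) (?_ : centralizer ({b} : Set G) ≤ M)
  · obtain ⟨i, rfl⟩ := mem_zpowers_iff.1 hba
    exact mem_centralizer_singleton_iff.2
      (Commute.zpow_right (mem_centralizer_singleton_iff.1 hg) i)
  set C := centralizer ({b} : Set G)
  haveI := hsolv b hb1
  have hRC : (R : Subgroup G) ≤ C := sylow_le_centralizer hG R hrp ((hmem b).1 hb).1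
  set R' : Sylow r C := R.subtype hRC
  haveI := Coprime.sylow_sup_pPrimeCore_normal R' (by
    refine ⟨⟨fun x y => Subtype.ext (Subtype.ext ?_)⟩⟩
    exact sylow_comm hG R hrp (mem_subgroupOf.1 x.2) (mem_subgroupOf.1 y.2))
  set L := (R' : Subgroup C) ⊔ Cfsg.pPrimeCore r C
  have hFr := Sylow.normalizer_sup_eq_top' (N := L) R' le_sup_left
  intro g hg
  have hgtop := hFr.ge (mem_top (⟨g, hg⟩ : C))
  have hle : normalizer ((R' : Subgroup C) : Set C) ⊔ L ≤ M.comap C.subtype := by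
    refine sup_le (fun n hn => hXM (hNX ?_)) (sup_le (fun x hx => hXM (hNX (le_normalizer hx))) ?_)
    · refine mem_normalizer_iff.2 fun x => ⟨fun hx => ?_, fun hx => ?_⟩
      · exact (mem_normalizer_iff.1 hn ⟨x, hRC hx⟩).1 hx
      · have h1 : n⁻¹ * (⟨(n : G) * x * (n : G)⁻¹, hRC hx⟩ : C) * (n⁻¹)⁻¹ ∈ (R' : Subgroup C) :=
          Coprime.conj_mem_of_le_normalizer le_rfl (inv_mem hn) hx
        have h2 := mem_subgroupOf.1 h1
        simpa [mul_assoc] using h2
    · exact fun x hx => hXM (hWX (hθW b hb hb1 ⟨x, hx, rfl⟩))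
  exact hle hgtop

end CfsgLib.Solv.AbHall
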