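import Cfsg.Agent.Lib.Solv.AbelianHallMinimal.Count

/-!
# Groups whose `p'`-subgroups are abelian of exponent dividing `p - 1` are solvable
-/

set_option autoImplicit false
set_option linter.unusedSectionVars false
set_option linter.style.haveILetI false
set_option maxHeartbeats 400000

open Subgroup

namespace CfsgLib.Solv.AbHall

universe u

variable {p : ℕ} [hp : Fact p.Prime]

theorem isSolvable_of_two {G : Type u} [Group G] [Finite G] (h : Hyp p G) (hp2 : p = 2) :
    Group.IsSolvable G := by
  have hpg : IsPGroup p G := fun g => by
    obtain ⟨v, k, -, -, rfl, hv, hk⟩ := exists_split p g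
    have hk1 : k = 1 := by
      have := h.pow_eq_one hk
      subst hp2
      simpa using this
    obtain ⟨e, he⟩ := hv
    exact ⟨e, by rw [hk1, mul_one, he]⟩
  haveI : Group.IsNilpotent G := hpg.isNilpotent
  infer_instance

theorem isSolvable_of_three {G : Type u} [Group G] [Finite G] (h : Hyp p G) (hp3 : p = 3) :
    Group.IsSolvable G := by
  refine Char.isSolvable_of_card_two_primes Nat.prime_three Nat.prime_two G
    ((Nat.card G).factorization 3) ((Nat.card G).factorization 2) ?_
  refine Nat.eq_of_factorization_eq Nat.card_pos.ne' (by positivity) fun r => ?_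
  rw [Nat.factorization_mul (by positivity) (by positivity), Nat.prime_three.factorization_pow,
    Nat.prime_two.factorization_pow, Finsupp.add_apply, Finsupp.single_apply, Finsupp.single_apply]
  by_cases h3 : r = 3
  · subst h3; simp
  by_cases h2 : r = 2
  · subst h2; simp
  rw [if_neg (Ne.symm h3), if_neg (Ne.symm h2)]
  by_cases hr : r.Prime
  · refine Nat.factorization_eq_zero_of_not_dvd fun hd => h2 ?_
    have := h.prime_dvd hr (by omega) hd
    rw [hp3] at this
    exact (Nat.prime_dvd_prime_iff_eq hr Nat.prime_two).1 this
  · exact Nat.factorization_eq_zero_of_not_prime _ hr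

/-- The theorem, by induction on the order. -/
theorem isSolvable_of_hyp (n : ℕ) :
    ∀ (G : Type u) [Group G] [Finite G], Nat.card G = n → Hyp p G → Group.IsSolvable G := by
  induction n using Nat.strong_induction_on with
  | _ n ih =>
    intro G _ _ hn h
    by_contra hns
    have hp5 : 5 ≤ p := by
      have h2 := hp.out.two_le
      by_contra hlt
      have : p = 2 ∨ p = 3 ∨ p = 4 := by omega
      rcases this with h' | h' | h'
      · exact hns (isSolvable_of_two h h')
      · exact hns (isSolvable_of_three h h')
      · exact absurd (h' ▸ hp.out) (by norm_num)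
    have hproper : ∀ H : Subgroup G, H ≠ ⊤ → Group.IsSolvable H := fun H hH =>
      ih _ (hn ▸ lt_of_le_of_ne (Subgroup.card_le_card_group H)
        fun e => hH (Subgroup.eq_top_of_card_eq H e)) H rfl (h.subgroup H)
    haveI : Nontrivial G := by
      by_contra hnt
      rw [not_nontrivial_iff_subsingleton] at hnt
      exact hns inferInstance
    have hcore : ∀ N : Subgroup G, N.Normal → N ≠ ⊥ →
        (IsPGroup p N ∨ ¬ p ∣ Nat.card N) → False := by
      intro N hN hN0 hN'
      haveI := hN
      haveI : Group.IsSolvable N := by
        rcases hN' with hP | hP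
        · haveI : Group.IsNilpotent N := hP.isNilpotent
          infer_instance
        · exact Group.isSolvable_of_comm fun a b => Subtype.ext (h.comm_mem hP a.2 b.2)
      haveI : Group.IsSolvable (G ⧸ N) := by
        refine ih _ ?_ (G ⧸ N) rfl (h.of_quotient_core N hN')
        rw [← hn, Subgroup.card_eq_card_quotient_mul_card_subgroup N]
        exact lt_mul_of_one_lt_right Nat.card_pos ((Subgroup.one_lt_card_iff_ne_bot N).2 hN0)
      exact hns (solvable_of_ker_le_range N.subtype (QuotientGroup.mk' N)
        (by rw [QuotientGroup.ker_mk', Subgroup.range_subtype]))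
    have hsimple : IsSimpleGroup G := by
      refine ⟨fun N hN => ?_⟩
      by_contra hc
      rw [not_or] at hc
      haveI := hN
      haveI := hproper N hc.2
      by_cases hF : Cfsg.pPrimeCore p N = ⊥
      · by_cases hQ : Cfsg.pCore p N = ⊥
        · have hcon := Coprime.centralizer_pCore_le (p := p) (G := N) hF
          rw [hQ] at hcon
          obtain ⟨x, hx⟩ := Subgroup.ne_bot_iff_exists_ne_one.1 hc.1
          exact hx (mem_bot.1 (hcon (mem_centralizer_iff.2 fun z hz => by
            rw [SetLike.mem_coe, mem_bot] at hz; subst hz; simp)))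
        · refine hcore (Cfsg.pCore p G) (Coprime.pCore_normal' p) (fun h0 => hQ ?_)
            (Or.inl (Coprime.pCore_isPGroup p))
          refine (Subgroup.map_eq_bot_iff_of_injective _ N.subtype_injective).1 ?_
          rw [Coprime.pCore_map_subtype_eq, h0, bot_inf_eq]
      · refine hcore (Cfsg.pPrimeCore p G) (Subgroup.sSup_normal _ (fun _ h => h.1))
          (fun h0 => hF ?_) (Or.inr (Coprime.pPrimeCore_not_dvd hp.out))
        refine (Subgroup.map_eq_bot_iff_of_injective _ N.subtype_injective).1 ?_
        rw [Coprime.pPrimeCore_map_subtype_eq hp.out, h0, bot_inf_eq]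
    exact Minimal.false ⟨hp5, h, hsimple, hns, hproper⟩

end CfsgLib.Solv.AbHall
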